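import Mathlib

/-!
# The four classes of element orders of a Suzuki group

`cls m` lists `4`, `q - 1`, `q + r + 1`, `q - r + 1` for `q = 2 ^ (2 m + 1)`, `r = 2 ^ (m + 1)`. `Sub G m` says
that every element order of `G` divides a product of two of them, as in the square of `Sz(q)`.
-/

set_option autoImplicit false

namespace CfsgLib.Lie.SuzSquare

universe u

/-- The maximal element orders of `Sz(2 ^ (2 m + 1))`. -/
def cls (m : ℕ) : Fin 4 → ℕ :=
  ![4, 2 ^ (2 * m + 1) - 1, 2 ^ (2 * m + 1) + 2 ^ (m + 1) + 1, 2 ^ (2 * m + 1) - 2 ^ (m + 1) + 1]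

theorem two_pow_le (m : ℕ) : 2 ^ (m + 1) ≤ 2 ^ (2 * m + 1) :=
  Nat.pow_le_pow_right (by norm_num) (by omega)

theorem sq_two_pow (m : ℕ) : 2 ^ (m + 1) * 2 ^ (m + 1) = 2 * 2 ^ (2 * m + 1) := by
  rw [← pow_succ', ← pow_add]; congr 1; omega

theorem cls_prod (m : ℕ) : cls m 2 * cls m 3 = (2 ^ (2 * m + 1)) ^ 2 + 1 := by
  show (2 ^ (2 * m + 1) + 2 ^ (m + 1) + 1) * (2 ^ (2 * m + 1) - 2 ^ (m + 1) + 1) = _
  obtain ⟨d, hd⟩ := Nat.exists_eq_add_of_le (two_pow_le m)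
  have h2 := sq_two_pow m
  rw [hd, Nat.add_sub_cancel_left]
  rw [hd] at h2
  nlinarith

theorem cls_pos (m : ℕ) (i : Fin 4) : 0 < cls m i := by
  have h : 2 ≤ 2 ^ (2 * m + 1) := le_trans (by norm_num) (Nat.pow_le_pow_right (by norm_num) (show 1 ≤ 2 * m + 1 by omega))
  fin_cases i
  · show 0 < 4; norm_num
  · show 0 < 2 ^ (2 * m + 1) - 1; omega
  · exact Nat.succ_pos _
  · exact Nat.succ_pos _

theorem cls_odd (m : ℕ) {i : Fin 4} (hi : i ≠ 0) : Odd (cls m i) := by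
  have h1 : 2 ∣ 2 ^ (2 * m + 1) := dvd_pow_self 2 (by omega)
  have h2 : 2 ∣ 2 ^ (m + 1) := dvd_pow_self 2 (by omega)
  have h3 := two_pow_le m
  have h4 : 0 < 2 ^ (2 * m + 1) := pow_pos (by norm_num) _
  rw [Nat.odd_iff]
  fin_cases i
  · exact absurd rfl hi
  · show (2 ^ (2 * m + 1) - 1) % 2 = 1; omega
  · show (2 ^ (2 * m + 1) + 2 ^ (m + 1) + 1) % 2 = 1; omega
  · show (2 ^ (2 * m + 1) - 2 ^ (m + 1) + 1) % 2 = 1; omega

theorem cls_zero (m : ℕ) : cls m 0 = 4 := rfl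

theorem cls_one (m : ℕ) : cls m 1 = 2 ^ (2 * m + 1) - 1 := rfl

theorem cls_le (m : ℕ) (hm : 1 ≤ m) (i : Fin 4) : cls m i ≤ 2 * 2 ^ (2 * m + 1) := by
  have h1 := two_pow_le m
  have h2 : 8 ≤ 2 ^ (2 * m + 1) := le_trans (by norm_num) (Nat.pow_le_pow_right (by norm_num) (show 3 ≤ 2 * m + 1 by omega))
  have h3 : 2 * 2 ^ (m + 1) ≤ 2 * 2 ^ (2 * m + 1) := by omega
  have h4 : 2 ^ (m + 1) < 2 ^ (2 * m + 1) := Nat.pow_lt_pow_right (by norm_num) (by omega)
  fin_cases i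
  · show 4 ≤ _; omega
  · show 2 ^ (2 * m + 1) - 1 ≤ _; omega
  · show 2 ^ (2 * m + 1) + 2 ^ (m + 1) + 1 ≤ _; omega
  · show 2 ^ (2 * m + 1) - 2 ^ (m + 1) + 1 ≤ _; omega

/-- No prime divides two of the numbers. -/
theorem cls_disjoint {m p : ℕ} (hp : p.Prime) {i j : Fin 4} (hi : p ∣ cls m i) (hj : p ∣ cls m j) : i = j := by
  by_contra hij
  have h2 : p ≠ 2 := by
    rintro rfl
    rcases eq_or_ne i 0 with rfl | hi0
    · exact Nat.not_even_iff_odd.2 (cls_odd m (Ne.symm hij)) (even_iff_two_dvd.2 hj)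
    · exact Nat.not_even_iff_odd.2 (cls_odd m hi0) (even_iff_two_dvd.2 hi)
  have h0 : ∀ k, p ∣ cls m k → k ≠ 0 := fun k hk e => by
    subst e
    rw [cls_zero, show (4 : ℕ) = 2 ^ 2 by norm_num] at hk
    exact h2 ((Nat.prime_dvd_prime_iff_eq hp Nat.prime_two).1 (hp.dvd_of_dvd_pow hk))
  have hpow : ∀ k, ¬ p ∣ 2 ^ k := fun k h => h2 ((Nat.prime_dvd_prime_iff_eq hp Nat.prime_two).1 (hp.dvd_of_dvd_pow h))
  have h1 : ∀ k, p ∣ cls m k → k ≠ 1 → p ∣ (2 ^ (2 * m + 1)) ^ 2 + 1 := fun k hk hk1 => by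
    rw [← cls_prod]
    have := h0 k hk
    fin_cases k
    · exact absurd rfl this
    · exact absurd rfl hk1
    · exact dvd_mul_of_dvd_left hk _
    · exact dvd_mul_of_dvd_right hk _
  have hone : ∀ k, p ∣ cls m k → p ∣ cls m 1 → k = 1 := fun k hk hk1 => by
    by_contra hne
    have hb := h1 k hk hne
    rw [cls_one] at hk1
    have hq : 0 < 2 ^ (2 * m + 1) := pow_pos (by norm_num) _
    have h3 : p ∣ (2 ^ (2 * m + 1)) ^ 2 - 1 ^ 2 := by
      rw [Nat.sq_sub_sq]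
      exact dvd_mul_of_dvd_right hk1 _
    have h4 := Nat.dvd_sub hb h3
    have h5 : 1 ≤ (2 ^ (2 * m + 1)) ^ 2 := Nat.one_le_pow _ _ hq
    rw [one_pow, show (2 ^ (2 * m + 1)) ^ 2 + 1 - ((2 ^ (2 * m + 1)) ^ 2 - 1) = 2 by omega] at h4
    exact h2 ((Nat.prime_dvd_prime_iff_eq hp Nat.prime_two).1 h4)
  have h23 : ¬ (p ∣ cls m 2 ∧ p ∣ cls m 3) := fun ⟨hb, hc⟩ => by
    have h := Nat.dvd_sub hb hc
    have h3 := two_pow_le m
    rw [show cls m 2 - cls m 3 = 2 * 2 ^ (m + 1) by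
      show (2 ^ (2 * m + 1) + 2 ^ (m + 1) + 1) - (2 ^ (2 * m + 1) - 2 ^ (m + 1) + 1) = _; omega,
      ← pow_succ'] at h
    exact hpow _ h
  have hi0 := h0 i hi
  have hj0 := h0 j hj
  rcases eq_or_ne i 1 with rfl | hi1
  · exact hij (hone j hj hi).symm
  rcases eq_or_ne j 1 with rfl | hj1
  · exact hij (hone i hi hj)
  fin_cases i <;> fin_cases j
  all_goals first
    | exact hij rfl
    | exact hi0 rfl
    | exact hj0 rfl
    | exact hi1 rfl
    | exact hj1 rfl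
    | exact h23 ⟨hi, hj⟩
    | exact h23 ⟨hj, hi⟩

theorem cls_coprime {m : ℕ} {i j : Fin 4} (hij : i ≠ j) : (cls m i).Coprime (cls m j) :=
  Nat.coprime_of_dvd fun _ hp hi hj => hij (cls_disjoint hp hi hj)

/-- The class of five. -/
theorem five_cls (m : ℕ) : ∃ i : Fin 4, (i = 2 ∨ i = 3) ∧ 5 ∣ cls m i := by
  have h : 5 ∣ (2 ^ (2 * m + 1)) ^ 2 + 1 := by
    rw [← pow_mul, show (2 * m + 1) * 2 = 4 * m + 2 by ring, pow_add, pow_mul, Nat.dvd_iff_mod_eq_zero,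
      Nat.add_mod, Nat.mul_mod, Nat.pow_mod]
    norm_num
  rw [← cls_prod] at h
  rcases (Nat.prime_five).dvd_mul.1 h with h | h
  exacts [⟨2, Or.inl rfl, h⟩, ⟨3, Or.inr rfl, h⟩]

/-- Every element order divides a product of two of the numbers. -/
def Sub (G : Type u) [Group G] (m : ℕ) : Prop :=
  ∀ g : G, ∃ i j : Fin 4, i ≠ j ∧ orderOf g ∣ cls m i * cls m j

variable {G : Type u} [Group G] {m : ℕ}

theorem Sub.of_injective (h : Sub G m) {H : Type*} [Group H] (f : H →* G) (hf : Function.Injective f) :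
    Sub H m := fun g => by
  obtain ⟨i, j, hij, hd⟩ := h (f g)
  exact ⟨i, j, hij, (orderOf_injective f hf g) ▸ hd⟩

theorem Sub.of_surjective (h : Sub G m) {H : Type*} [Group H] (f : G →* H) (hf : Function.Surjective f) :
    Sub H m := fun g => by
  obtain ⟨x, rfl⟩ := hf g
  obtain ⟨i, j, hij, hd⟩ := h x
  exact ⟨i, j, hij, (orderOf_map_dvd f x).trans hd⟩

/-- Each prime power of an element order divides one of the numbers. -/
theorem Sub.dvd_cls (h : Sub G m) {g : G} {p k : ℕ} (hp : p.Prime) (hk : p ^ k ∣ orderOf g) {l : Fin 4}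
    (hl : p ∣ cls m l) : p ^ k ∣ cls m l := by
  obtain ⟨i, j, hij, hd⟩ := h g
  have h' := hk.trans hd
  have hcop : ∀ x, x ≠ l → (p ^ k).Coprime (cls m x) := fun x hx =>
    Nat.Coprime.pow_left k ((Nat.Prime.coprime_iff_not_dvd hp).2 fun hd' => hx (cls_disjoint hp hd' hl))
  rcases eq_or_ne i l with rfl | hi
  · exact (hcop j hij.symm).dvd_of_dvd_mul_right h'
  · have h2 := (hcop i hi).dvd_of_dvd_mul_left h'
    rcases eq_or_ne j l with rfl | hj
    · exact h2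
    · exact (hcop j hj).eq_one_of_dvd h2 ▸ one_dvd _

/-- Every prime divisor of an element order lies in a class. -/
theorem Sub.exists_cls (h : Sub G m) {g : G} {p : ℕ} (hp : p.Prime) (hd : p ∣ orderOf g) :
    ∃ l, p ∣ cls m l := by
  obtain ⟨i, j, -, hd'⟩ := h g
  rcases hp.dvd_mul.1 (hd.trans hd') with h | h
  exacts [⟨i, h⟩, ⟨j, h⟩]

theorem Sub.exists_cls_card (h : Sub G m) [Finite G] {p : ℕ} (hp : p.Prime) (hd : p ∣ Nat.card G) :
    ∃ l, p ∣ cls m l := by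
  haveI := Fact.mk hp
  obtain ⟨g, hg⟩ := exists_prime_orderOf_dvd_card' p hd
  exact h.exists_cls (g := g) hp hg.symm.dvd

theorem Sub.no_eight (h : Sub G m) {g : G} : ¬ 8 ∣ orderOf g := fun hg => by
  have := h.dvd_cls (k := 3) Nat.prime_two hg (l := 0) (by rw [cls_zero]; norm_num)
  rw [cls_zero] at this
  norm_num at this

/-- No three commuting elements of prime orders in three classes. -/
theorem Sub.no_three (h : Sub G m) {x y z : G} {p q r : ℕ} (hp : p.Prime) (hq : q.Prime) (hr : r.Prime)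
    {a b c : Fin 4} (hpa : p ∣ cls m a) (hqb : q ∣ cls m b) (hrc : r ∣ cls m c) (hab : a ≠ b) (hac : a ≠ c)
    (hbc : b ≠ c) (hx : orderOf x = p) (hy : orderOf y = q) (hz : orderOf z = r) (hxy : Commute x y)
    (hxz : Commute x z) (hyz : Commute y z) : False := by
  have hne : ∀ {u v : ℕ} {e f : Fin 4}, u.Prime → v.Prime → u ∣ cls m e → v ∣ cls m f → e ≠ f →
      u.Coprime v := fun hu hv he hf hef => (Nat.coprime_primes hu hv).2 fun e' =>
    hef (cls_disjoint hu he (e' ▸ hf))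
  have h1 : orderOf (x * y) = p * q := by
    rw [hxy.orderOf_mul_eq_mul_orderOf_of_coprime (by rw [hx, hy]; exact hne hp hq hpa hqb hab), hx, hy]
  have h2 : orderOf (x * y * z) = p * q * r := by
    rw [(hxz.mul_left hyz).orderOf_mul_eq_mul_orderOf_of_coprime (by
      rw [h1, hz]
      exact Nat.Coprime.mul_left (hne hp hr hpa hrc hac) (hne hq hr hqb hrc hbc)), h1, hz]
  obtain ⟨i, j, -, hd⟩ := h (x * y * z)
  rw [h2] at hd
  have key : ∀ {u : ℕ} {e : Fin 4}, u.Prime → u ∣ cls m e → u ∣ p * q * r → e = i ∨ e = j :=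
    fun hu he hdu => by
    rcases hu.dvd_mul.1 (hdu.trans hd) with h' | h'
    exacts [Or.inl (cls_disjoint hu he h'), Or.inr (cls_disjoint hu he h')]
  rcases key hp hpa (dvd_mul_of_dvd_left (dvd_mul_right p q) r) with rfl | rfl <;>
    rcases key hq hqb (dvd_mul_of_dvd_left (dvd_mul_left q p) r) with rfl | rfl <;>
      rcases key hr hrc (dvd_mul_left r _) with rfl | rfl <;> simp_all

end CfsgLib.Lie.SuzSquare
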