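import Cfsg.Agent.Lib.Lie.SuzSquare.Lifts

/-!
# The `2`-part of the kernel of a cover and the lift of the Borel subgroup
-/

set_option autoImplicit false
set_option linter.style.haveILetI false
set_option linter.unusedSectionVars false

namespace CfsgLib.Lie.SuzSquare

open Subgroup CfsgLib.Coprime
open scoped commutatorElement

universe u v

variable {G : Type u} [Group G] [Finite G] {T : Type v} [Group T] [Finite T]

theorem exact_full (C : Cover G T) {m : ℕ} (hsub : Sub G m) {p k : ℕ} (hp : p.Prime) {l : Fin 4}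
    (hl : p ∣ cls m l) (hfull : ¬ p ^ (k + 1) ∣ cls m l) {x : T} (hx : orderOf x = p ^ k) : C.Exact p x :=
  C.exact_of_max hp (fun g j hg => by
    by_contra hc
    exact hfull ((pow_dvd_pow p (by omega : k + 1 ≤ j)).trans (hsub.dvd_cls hp hg.symm.dvd hl))) hx

/-- A power dividing a product of coprime numbers to full exponent. -/
theorem full_of_mul {m p k : ℕ} (hp : p.Prime) (hk : 1 ≤ k) (h : p ^ k ∣ cls m 2 * cls m 3)
    (hn : ¬ p ^ (k + 1) ∣ cls m 2 * cls m 3) : ∃ l : Fin 4, p ∣ cls m l ∧ ¬ p ^ (k + 1) ∣ cls m l := by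
  rcases hp.dvd_mul.1 ((dvd_pow_self p (by omega)).trans h) with h' | h'
  exacts [⟨2, h', fun hd => hn (dvd_mul_of_dvd_left hd _)⟩, ⟨3, h', fun hd => hn (dvd_mul_of_dvd_right hd _)⟩]

/-- The quotient of a cover by a normal subgroup inside the kernel. -/
def Cover.push (C : Cover G T) (N : Subgroup C.X) [N.Normal] (hN : N ≤ C.f.ker) : Cover (C.X ⧸ N) T where
  X := ⊤
  f := (QuotientGroup.lift N C.f hN).comp (⊤ : Subgroup (C.X ⧸ N)).subtype
  surj := fun t => by
    obtain ⟨g, rfl⟩ := C.surj t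
    exact ⟨⟨QuotientGroup.mk g, mem_top _⟩, rfl⟩
  minimal := fun Y hY => by
    set Y' := (Y.map (⊤ : Subgroup (C.X ⧸ N)).subtype).comap (QuotientGroup.mk' N)
    have h : Y' = ⊤ := C.minimal Y' (by
      rw [eq_top_iff]
      intro t _
      obtain ⟨⟨y, hy'⟩, hy, rfl⟩ : t ∈ Y.map _ := hY.symm ▸ mem_top t
      obtain ⟨g, rfl⟩ := QuotientGroup.mk'_surjective N y
      exact ⟨g, ⟨⟨_, hy'⟩, hy, rfl⟩, rfl⟩)
    rw [eq_top_iff]
    rintro ⟨y, hy'⟩ -
    obtain ⟨g, rfl⟩ := QuotientGroup.mk'_surjective N y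
    obtain ⟨⟨z, hz'⟩, hz, e⟩ : g ∈ Y' := h.symm ▸ mem_top g
    exact (show (⟨QuotientGroup.mk' N g, hy'⟩ : (⊤ : Subgroup (C.X ⧸ N))) = ⟨z, hz'⟩ from Subtype.ext e.symm) ▸ hz

variable [IsSimpleGroup T]

/-- The `2`-elements of the kernel are central, for a torus of full orders. -/
theorem Cover.two_central (C : Cover G T) {m : ℕ} (hsub : Sub G m) (hT : HasTorus T m) {z : C.X}
    (hz : C.f z = 1) (hz2 : ∃ j, orderOf z = 2 ^ j) : z ∈ center C.X := by
  haveI := Fact.mk Nat.prime_two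
  obtain ⟨S⟩ : Nonempty (Sylow 2 C.f.ker) := inferInstance
  set Z := (S : Subgroup C.f.ker).map C.f.ker.subtype
  have hker : C.f.ker ≤ frattini C.X := le_frattini_of_forall_coatom fun M hM => by
    by_contra h
    have htop : M ⊔ C.f.ker = ⊤ := hM.2 _ (lt_of_le_of_ne le_sup_left fun e => h (e ▸ le_sup_right))
    refine hM.1 (C.minimal M ?_)
    rw [← (map_top_of_surjective C.f C.surj), ← htop, Subgroup.map_sup]
    refine le_antisymm le_sup_left (sup_le le_rfl ?_)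
    rintro _ ⟨w, hw, rfl⟩
    rw [MonoidHom.mem_ker.1 hw]; exact one_mem _
  have hZtop : normalizer (Z : Set C.X) = ⊤ := by
    refine frattini_nongenerating (eq_top_iff.2 ?_)
    rw [← Sylow.normalizer_sup_eq_top S]
    exact sup_le_sup le_rfl hker
  haveI hZn : Z.Normal := normalizer_eq_top_iff.1 hZtop
  have hZ2 : IsPGroup 2 Z := S.2.map _
  haveI : Group.IsNilpotent Z := hZ2.isNilpotent
  have hZk : Z ≤ C.f.ker := map_subtype_le _
  have hzZ : z ∈ Z := by
    obtain ⟨j, hj⟩ := hz2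
    let zk : C.f.ker := ⟨z, MonoidHom.mem_ker.2 hz⟩
    obtain ⟨R, hR⟩ := (IsPGroup.of_card (G := zpowers zk) (p := 2) (n := j) (by
      rw [Nat.card_zpowers, ← Subgroup.orderOf_coe]; exact hj)).exists_le_sylow
    haveI : (S : Subgroup C.f.ker).Normal := hZn.of_map_subtype
    obtain ⟨c, hc⟩ := MulAction.exists_smul_eq C.f.ker S R
    have hcS : c • S = S := Sylow.smul_eq_iff_mem_normalizer.2 (mem_normalizer_fintype fun w hw => Subgroup.Normal.conj_mem (by assumption : (S : Subgroup C.f.ker).Normal) w hw c)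
    exact ⟨zk, hcS.symm.trans hc ▸ hR (mem_zpowers _), rfl⟩
  -- an odd element acting
  obtain ⟨y, τ, p, k, i, hp, hk, hd, hnd, hτ, -⟩ := id hT
  have hp2 := odd_torus_prime hp hk hd
  obtain ⟨g₀, rfl⟩ := C.surj τ
  obtain ⟨g, -, hgf, j, hgj⟩ := exists_plift C.f (⊤ : Subgroup C.X) hp (k := k) (mem_top g₀) hτ
  set Φ := (frattini Z).map Z.subtype
  haveI : Φ.Normal := ConjAct.normal_of_characteristic_of_normal
  have hΦk : Φ ≤ C.f.ker := (map_subtype_le _).trans hZk
  set π := QuotientGroup.mk' Φ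
  let C' := C.push Φ hΦk
  haveI : IsMulCommutative (Z.map π) := by
    refine isMulCommutative_iff.2 ?_
    rintro ⟨_, a, ha, rfl⟩ ⟨_, b, hb, rfl⟩
    refine Subtype.ext ?_
    show π a * π b = π b * π a
    rw [← map_mul, ← map_mul, ← mul_inv_eq_one, ← map_inv, ← map_mul]
    refine (QuotientGroup.eq_one_iff _).2 ⟨_, commutator_le_frattini_of_isNilpotent (G := Z)
      (commutator_mem_commutator (g₁ := (⟨a, ha⟩ : Z)) (g₂ := (⟨b, hb⟩ : Z)) (mem_top _) (mem_top _)), ?_⟩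
    simp [commutatorElement_def, mul_assoc]
  have hC' : C'.X ≤ centralizer ((Z.map π : Subgroup _) : Set (C.X ⧸ Φ)) := by
    have hsub' : Sub (C.X ⧸ Φ) m :=
      (hsub.of_injective C.X.subtype C.X.subtype_injective).of_surjective π (QuotientGroup.mk'_surjective Φ)
    refine C'.two_trivial hsub' hT (fun p' k' hp' hk' hd' hnd' τ' hτ' => ?_) (hZ2.map π) ?_
    · obtain ⟨l, hl, hfull⟩ := full_of_mul hp' hk' hd' hnd'
      exact exact_full C' hsub' hp' hl hfull hτ'
    · rw [normalizer_eq_top_iff.2 (hZn.map π (QuotientGroup.mk'_surjective Φ))]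
      exact le_top
  have hgc : zpowers g ≤ centralizer (Z : Set C.X) := by
    refine le_centralizer_of_trivial_on_frattini_quotient (hZtop.symm ▸ le_top) ?_ fun a _ w hw => ?_
    · rw [Nat.card_zpowers, hgj]
      obtain ⟨e, he⟩ := (hZ2.to_subgroup (frattini Z)).exists_card_eq
      rw [he]
      exact Nat.Coprime.pow _ _ ((Nat.coprime_primes hp Nat.prime_two).2 hp2)
    · refine (QuotientGroup.eq_one_iff _).1 ?_
      show π (a * w * a⁻¹ * w⁻¹) = 1
      rw [map_mul, map_mul, map_mul, map_inv, map_inv,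
        ← (mem_centralizer_iff.1 (hC' (mem_top (π a))) _ (mem_map_of_mem π hw) : π w * π a = π a * π w)]
      group
  refine mem_center_iff.2 fun w => ?_
  haveI : (centralizer (Z : Set C.X)).Normal := normalizer_eq_top_iff.1 (top_le_iff.1 (by
    rw [← hZtop]; exact normalizer_le_normalizer_centralizer Z))
  have htop := C.normal_top (hgc (mem_zpowers g)) (y := g) (by
    rw [hgf]; intro e
    rw [e, orderOf_one] at hτ
    exact hp.ne_one (Nat.eq_one_of_dvd_one (hτ.symm ▸ dvd_pow_self p (by omega))))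
  exact (mem_centralizer_iff.1 (htop.symm ▸ mem_top w) z hzZ).symm

/-- The lift of the Borel subgroup. -/
theorem Cover.exists_borel_lift (C : Cover G T) {m n : ℕ} (hsub : Sub G m) (hB : HasBorel T n)
    (hZ : ∀ z : C.X, C.f z = 1 → (∃ j, orderOf z = 2 ^ j) → z ∈ center C.X) {p k : ℕ} (hp : p.Prime)
    (hk : 1 ≤ k) (hd : p ^ k ∣ cls n 1) (hnd : ¬ p ^ (k + 1) ∣ cls n 1)
    (hex : ∀ x : T, orderOf x = p ^ k → C.Exact p x) :
    ∃ (g : C.X) (A : Subgroup G), orderOf g = p ^ k ∧ C.f g ≠ 1 ∧ IsPGroup 2 A ∧ A ≤ C.X ∧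
      (g : G) ∈ normalizer (A : Set G) ∧ (∀ j : ℕ, (g : G) ^ j ≠ 1 → ∀ a ∈ A, Commute ((g : G) ^ j) a → a = 1) ∧
      ∃ a : C.X, (a : G) ∈ A ∧ C.f a ≠ 1 := by
  haveI := Fact.mk Nat.prime_two
  obtain ⟨U, x, hU, hx, hxU, hUc, ⟨u₀, hu₀, hu₀2⟩, hfpf⟩ := hB p k hp hk hd hnd
  have hp2 : p ≠ 2 := by
    rintro rfl
    exact Nat.not_even_iff_odd.2 (cls_odd n (i := 1) (by decide))
      (even_iff_two_dvd.2 ((dvd_pow_self 2 (by omega)).trans hd))
  obtain ⟨P, g, hP, hPU, -, hgN, hgf, e, he⟩ := C.exists_normalizing (q := 2) hp hU hxU hx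
  have hgo : orderOf g = p ^ k := (hex x hx g hgf ⟨e, he⟩).trans hx
  have hg1 : C.f g ≠ 1 := fun e' => by
    rw [hgf] at e'; rw [e', orderOf_one] at hx
    exact hp.ne_one (Nat.eq_one_of_dvd_one (hx.symm ▸ dvd_pow_self p (by omega)))
  have h4 : ∀ u ∈ P, u ^ 4 = 1 := fun u hu => by
    obtain ⟨j, hj⟩ := IsPGroup.iff_orderOf.1 hP ⟨u, hu⟩
    rw [Subgroup.orderOf_mk] at hj
    refine orderOf_dvd_iff_pow_eq_one.1 ?_
    rw [hj, show (4 : ℕ) = 2 ^ 2 by norm_num]
    exact pow_dvd_pow 2 (eq_of_dvd_two hsub ((Subgroup.orderOf_coe u).trans hj))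
  -- the squares commute
  have hsq : ∀ a ∈ P, ∀ b ∈ P, Commute (a * a) (b * b) := by
    intro a ha b hb
    set w := b * b
    set z := a * w * a⁻¹ * w⁻¹ with hzdef
    have hwP : w ∈ P := mul_mem hb hb
    have hzP : z ∈ P := mul_mem (mul_mem (mul_mem ha hwP) (inv_mem ha)) (inv_mem hwP)
    have hzc : z ∈ center C.X := hZ z (by
      have hc := hUc _ (hPU ▸ mem_map_of_mem C.f ha) _ (hPU ▸ mem_map_of_mem C.f hb)
      rw [hzdef, map_mul, map_mul, map_mul, map_inv, map_inv, map_mul, hc.eq]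
      group) (by
        obtain ⟨j, hj⟩ := IsPGroup.iff_orderOf.1 hP ⟨z, hzP⟩
        exact ⟨j, by rwa [Subgroup.orderOf_mk] at hj⟩)
    have hz' : ∀ t : C.X, Commute t z := fun t => mem_center_iff.1 hzc t
    have hw2 : w * w = 1 := by
      rw [show w * w = b ^ 4 by simp [w, pow_succ, mul_assoc], h4 b hb]
    have h1 : a * w * a⁻¹ = z * w := by rw [hzdef]; group
    have hzz : z * z = 1 := by
      have h2 : (z * w) * (z * w) = 1 := by
        rw [← h1, show a * w * a⁻¹ * (a * w * a⁻¹) = a * (w * w) * a⁻¹ by group, hw2]; group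
      rw [(hz' w).mul_mul_mul_comm, hw2, mul_one] at h2
      exact h2
    show a * a * w = w * (a * a)
    calc a * a * w = a * (a * w * a⁻¹) * a := by group
      _ = a * (z * w) * a := by rw [h1]
      _ = z * (a * w) * a := by rw [← mul_assoc a z w, (hz' a).eq, mul_assoc z a w]
      _ = z * (z * w * a) * a := by rw [show a * w = z * w * a by rw [← h1]; group]
      _ = z * z * (w * (a * a)) := by group
      _ = w * (a * a) := by rw [hzz, one_mul]
  set E := Subgroup.closure ((fun a : C.X => a * a) '' (P : Set C.X)) with hE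
  have hEP : E ≤ P := (Subgroup.closure_le _).2 (by rintro _ ⟨a, ha, rfl⟩; exact mul_mem ha ha)
  haveI hEc : IsMulCommutative E := Subgroup.isMulCommutative_closure (by
    rintro _ ⟨a, ha, rfl⟩ _ ⟨b, hb, rfl⟩
    exact (hsq a ha b hb).eq)
  have hgE : zpowers g ≤ normalizer (E : Set C.X) := by
    refine zpowers_le.2 ((conjBy_eq_self_iff).1 (Subgroup.eq_of_le_of_card_ge ?_ (card_conjBy g E).ge))
    show E.map (MulAut.conj g).toMonoidHom ≤ E
    rw [hE, MonoidHom.map_closure]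
    refine Subgroup.closure_mono ?_
    rintro _ ⟨_, ⟨a, ha, rfl⟩, rfl⟩
    exact ⟨g * a * g⁻¹, (mem_normalizer_iff.1 hgN a).1 ha, (map_mul (MulAut.conj g).toMonoidHom a a).symm⟩
  have hE2 : IsPGroup 2 E := hP.to_le hEP
  have hcop : (Nat.card (zpowers g)).Coprime (Nat.card E) := by
    obtain ⟨j, hj⟩ := hE2.exists_card_eq
    rw [hj, Nat.card_zpowers, hgo]
    exact Nat.Coprime.pow _ _ ((Nat.coprime_primes hp Nat.prime_two).2 hp2)
  have hAle : ⁅E, zpowers g⁆ ≤ E := commutator_le.2 fun b hb c hc => by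
    rw [commutatorElement_def]
    have := mul_mem hb ((mem_normalizer_iff.1 (hgE hc) b⁻¹).1 (inv_mem hb))
    simpa [mul_assoc] using this
  have hord : ∀ j : ℕ, x ^ j = 1 → g ^ j = 1 := fun j e' => by
    rw [← orderOf_dvd_iff_pow_eq_one, hgo, ← hx]; exact orderOf_dvd_of_pow_eq_one e'
  refine ⟨g, (⁅E, zpowers g⁆).map C.X.subtype, hgo, hg1, (hE2.to_le hAle).map _, map_subtype_le _, ?_, ?_, ?_⟩
  · refine Subgroup.le_normalizer_map C.X.subtype ⟨g, ?_, rfl⟩
    refine conjBy_eq_self_iff.1 ?_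
    show Subgroup.map _ ⁅E, zpowers g⁆ = _
    rw [map_commutator]
    exact congrArg₂ _ (conjBy_eq_self_iff.2 (hgE (mem_zpowers g)))
      (conjBy_eq_self_iff.2 (le_normalizer (mem_zpowers g)))
  · rintro j hj _ ⟨a, ha, rfl⟩ hc
    have hxj : x ^ j ≠ 1 := fun e' => hj (by simpa using congrArg Subtype.val (hord j e'))
    have hc' : Commute (g ^ j) a := Subtype.ext (by simpa using hc.eq)
    have hfa : C.f a = 1 := hfpf j hxj _ (hPU ▸ mem_map_of_mem C.f (hEP (hAle ha))) (by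
      have := hc'.map C.f
      rwa [map_pow, hgf] at this)
    have hac : a ∈ center C.X := hZ a hfa (by
      obtain ⟨i, hi⟩ := IsPGroup.iff_orderOf.1 hP ⟨a, hEP (hAle ha)⟩
      exact ⟨i, by rwa [Subgroup.orderOf_mk] at hi⟩)
    have hm : a ∈ (E ⊓ centralizer (zpowers g : Set C.X)) ⊓ ⁅E, zpowers g⁆ :=
      ⟨⟨hAle ha, mem_centralizer_iff.2 fun b _ => mem_center_iff.1 hac b⟩, ha⟩
    rw [centralizer_inf_commutator_eq_bot hEc hgE hcop, mem_bot] at hm
    simp [hm]
  · obtain ⟨u, hu, huf⟩ : u₀ ∈ P.map C.f := hPU.symm ▸ hu₀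
    have huE : u * u ∈ E := Subgroup.subset_closure ⟨u, hu, rfl⟩
    refine ⟨⁅u * u, g⁆, mem_map_of_mem _ (commutator_mem_commutator huE (mem_zpowers g)), fun e' => ?_⟩
    rw [map_commutatorElement, map_mul, huf, hgf, commutatorElement_eq_one_iff_mul_comm] at e'
    refine hu₀2 (hfpf 1 (by rw [pow_one]; exact hgf ▸ hg1) _ (mul_mem hu₀ hu₀) ?_)
    rw [pow_one]
    exact (show Commute (u₀ * u₀) x from e').symm

/-- The fixed point of the lifted torus element of the Borel subgroup. -/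
theorem Cover.borel_fixed (C : Cover G T) {g : C.X} {A : Subgroup G}
    (hA2 : IsPGroup 2 A) (hAX : A ≤ C.X) (hgA : (g : G) ∈ normalizer (A : Set G))
    (hfpf : ∀ j : ℕ, (g : G) ^ j ≠ 1 → ∀ a ∈ A, Commute ((g : G) ^ j) a → a = 1)
    (hAnt : ∃ a : C.X, (a : G) ∈ A ∧ C.f a ≠ 1) {r : ℕ} [Fact r.Prime] (hr2 : r ≠ 2) (hgo : ¬ r ∣ orderOf g)
    {V : Subgroup G} (hV : IsPGroup r V) (hV0 : V ≠ ⊥) (hXV : C.X ≤ normalizer (V : Set G)) :
    ∃ v ∈ V, v ≠ 1 ∧ Commute (g : G) v := by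
  haveI := Fact.mk Nat.prime_two
  by_cases hnt : A ≤ centralizer (V : Set G)
  · obtain ⟨a, ha, haf⟩ := hAnt
    obtain ⟨v, hv, hv1⟩ := V.bot_or_exists_ne_one.resolve_left hV0
    exact ⟨v, hv, hv1, (mem_centralizer_iff.1 (C.centralizes hXV haf (hnt ha) g.2) v hv).symm⟩
  · refine PGroup.FourPrimes.exists_fixed_of_semiregular hV ?_ (by rwa [Subgroup.orderOf_coe]) (hAX.trans hXV)
      (hXV g.2) hgA hfpf hnt
    obtain ⟨e, he⟩ := hA2.exists_card_eq
    rw [he]
    exact fun hd => hr2 ((Nat.prime_dvd_prime_iff_eq Fact.out Nat.prime_two).1 ((Fact.out : r.Prime).dvd_of_dvd_pow hd))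

end CfsgLib.Lie.SuzSquare
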