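import Cfsg.Agent.Lib.PGroup.FourPrimes.Semiregular

/-!
# A semiregular cyclic group of operators of a module and its norm
-/

set_option autoImplicit false
set_option linter.style.haveILetI false

namespace CfsgLib.Lie.SuzSquare

open Subgroup

universe u

variable {G : Type u} [Group G]

/-- The powers of `v * b` for `b` normalising `V`. -/
theorem mul_pow_eq {V : Subgroup G} {b v : G} (hb : b ∈ normalizer (V : Set G)) (hv : v ∈ V) (n : ℕ) :
    ∃ w ∈ V, (v * b) ^ n = w * b ^ n := by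
  induction n with
  | zero => exact ⟨1, one_mem _, by simp⟩
  | succ n ih =>
    obtain ⟨w, hw, e⟩ := ih
    refine ⟨w * (b ^ n * v * (b ^ n)⁻¹), mul_mem hw ((mem_normalizer_iff.1 (pow_mem hb n) v).1 hv), ?_⟩
    rw [pow_succ, e, pow_succ]
    group

variable [Finite G]

/-- If `b` acts semiregularly on `A`, `A` acts coprimely on the abelian `V`, and all products `v * b` keep the
order of `b`, then `A` centralizes `V`. -/
theorem le_centralizer_of_pow {A V : Subgroup G} [IsMulCommutative V] {b : G}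
    (hcop : (Nat.card A).Coprime (Nat.card V)) (hAV : A ≤ normalizer (V : Set G))
    (hbV : b ∈ normalizer (V : Set G)) (hbA : b ∈ normalizer (A : Set G))
    (hfpf : ∀ i : ℕ, b ^ i ≠ 1 → ∀ a ∈ A, Commute (b ^ i) a → a = 1)
    (hpow : ∀ v ∈ V, (v * b) ^ orderOf b = 1) : A ≤ centralizer (V : Set G) := by
  classical
  open scoped IsMulCommutative in
  let c : normalizer (V : Set G) →* MulAut V := V.normalizerMonoidHom
  have hc : ∀ (g : normalizer (V : Set G)) (v : V), ((c g v : V) : G) = g * v * (g : G)⁻¹ :=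
    fun g v => rfl
  haveI := Fintype.ofFinite A
  let β : normalizer (V : Set G) := ⟨b, hbV⟩
  let α : A → normalizer (V : Set G) := fun a => ⟨a, hAV a.2⟩
  have hU : ∀ w : V, ∏ i ∈ Finset.range (orderOf b), c (β ^ i) w = 1 := by
    intro w
    have key : ∀ n : ℕ, ((w : G) * b) ^ n =
        ((∏ i ∈ Finset.range n, c (β ^ i) w : V) : G) * b ^ n := by
      intro n
      induction n with
      | zero => simp
      | succ n ih =>
        rw [pow_succ, ih, Finset.prod_range_succ, Subgroup.coe_mul, hc, pow_succ,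
          show ((β ^ n : normalizer (V : Set G)) : G) = b ^ n by simp [β]]
        group
    have h := key (orderOf b)
    rw [hpow w w.2, pow_orderOf_eq_one, mul_one] at h
    exact Subtype.ext h.symm
  -- the sum over `A` is fixed by `A`
  let T : V → V := fun w => ∏ a : A, c (α a) w
  have hT : ∀ (a₀ : A) (w : V), c (α a₀) (T w) = T w := by
    intro a₀ w
    show c (α a₀) (∏ a : A, c (α a) w) = ∏ a : A, c (α a) w
    rw [map_prod]
    refine Fintype.prod_bijective (fun a => a₀ * a) (Group.mulLeft_bijective a₀) _ _ fun a => ?_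
    rw [← MulAut.mul_apply, ← map_mul]
    rfl
  -- the twisted diagonals
  have hsum : ∀ (v : V) (i : ℕ), b ^ i ≠ 1 →
      ∏ a : A, c (α a * β ^ i * (α a)⁻¹) v = T (c (β ^ i) v) := by
    intro v i hi
    have hbi : b ^ i ∈ normalizer (A : Set G) := pow_mem hbA i
    let f : A → A := fun a => ⟨a * (b ^ i * (a : G)⁻¹ * (b ^ i)⁻¹), mul_mem a.2
      ((mem_normalizer_iff.1 hbi _).1 (inv_mem a.2))⟩
    have hinj : Function.Injective f := by
      intro a a' h
      have h' : (a : G) * (b ^ i * (a : G)⁻¹ * (b ^ i)⁻¹) =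
          a' * (b ^ i * (a' : G)⁻¹ * (b ^ i)⁻¹) := congrArg Subtype.val h
      have h'' : ((a' : G)⁻¹ * a) * b ^ i = b ^ i * ((a' : G)⁻¹ * a) := by
        calc ((a' : G)⁻¹ * a) * b ^ i
            = (a' : G)⁻¹ * ((a : G) * (b ^ i * (a : G)⁻¹ * (b ^ i)⁻¹)) * (b ^ i * a) := by group
          _ = (a' : G)⁻¹ * ((a' : G) * (b ^ i * (a' : G)⁻¹ * (b ^ i)⁻¹)) * (b ^ i * a) := by rw [h']
          _ = b ^ i * ((a' : G)⁻¹ * a) := by group
      exact Subtype.ext (inv_mul_eq_one.1
        (hfpf i hi _ (mul_mem (inv_mem a'.2) a.2) (Commute.symm h''))).symm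
    refine Fintype.prod_bijective f (Finite.injective_iff_bijective.1 hinj) _ _ fun a => ?_
    rw [← MulAut.mul_apply, ← map_mul]
    congr 2
    refine Subtype.ext ?_
    show (a : G) * ((β ^ i : normalizer (V : Set G)) : G) * (a : G)⁻¹ =
      (a : G) * (b ^ i * (a : G)⁻¹ * (b ^ i)⁻¹) * ((β ^ i : normalizer (V : Set G)) : G)
    rw [SubmonoidClass.coe_pow]
    group
    simp [β]
  intro x hx
  refine mem_centralizer_iff.2 fun u hu => ?_
  let v : V := ⟨u, hu⟩
  have htot : ∏ i ∈ Finset.range (orderOf b), ∏ a : A, c (α a * β ^ i * (α a)⁻¹) v = 1 := by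
    rw [Finset.prod_comm]
    refine Finset.prod_eq_one fun a _ => ?_
    have : ∀ i : ℕ, c (α a * β ^ i * (α a)⁻¹) v = c (α a) (c (β ^ i) (c (α a)⁻¹ v)) := fun i => by
      rw [map_mul, map_mul, MulAut.mul_apply, MulAut.mul_apply]
    rw [Finset.prod_congr rfl fun i _ => this i, ← map_prod, hU, map_one]
  obtain ⟨m, hm⟩ : ∃ m, orderOf b = m + 1 := ⟨orderOf b - 1, by have := orderOf_pos b; omega⟩
  rw [hm, Finset.prod_range_succ'] at htot
  have h0 : ∏ a : A, c (α a * β ^ 0 * (α a)⁻¹) v = v ^ Nat.card A := by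
    simp [Nat.card_eq_fintype_card]
  rw [h0] at htot
  let a₀ : A := ⟨x, hx⟩
  have hfixpow : c (α a₀) (v ^ Nat.card A) = v ^ Nat.card A := by
    rw [eq_inv_of_mul_eq_one_right htot, map_inv, map_prod]
    refine congrArg Inv.inv (Finset.prod_congr rfl fun i hi => ?_)
    rw [hsum v (i + 1) (pow_ne_one_of_lt_orderOf (Nat.succ_ne_zero i)
      (hm ▸ Nat.succ_lt_succ (Finset.mem_range.1 hi))), hT]
  rw [map_pow] at hfixpow
  have hfix : c (α a₀) v = v := (powCoprime hcop.symm).injective hfixpow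
  have h2 := congrArg Subtype.val hfix
  rw [hc] at h2
  exact (mul_inv_eq_iff_eq_mul.1 h2).symm

/-- The version for a `p`-element `b` whose order is the largest `p`-power order. -/
theorem le_centralizer_of_max {p k : ℕ} [hp : Fact p.Prime] {A V : Subgroup G} [IsMulCommutative V] {b : G}
    (hV : IsPGroup p V) (hA : ¬ p ∣ Nat.card A) (hb : orderOf b = p ^ k)
    (hmax : ∀ g : G, ∀ j : ℕ, orderOf g = p ^ j → j ≤ k) (hAV : A ≤ normalizer (V : Set G))
    (hbV : b ∈ normalizer (V : Set G)) (hbA : b ∈ normalizer (A : Set G))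
    (hfpf : ∀ i : ℕ, b ^ i ≠ 1 → ∀ a ∈ A, Commute (b ^ i) a → a = 1) : A ≤ centralizer (V : Set G) := by
  obtain ⟨e, he⟩ := hV.exists_card_eq
  refine le_centralizer_of_pow (he ▸ ((Nat.Prime.coprime_iff_not_dvd hp.out).2 hA).symm.pow_right e)
    hAV hbV hbA hfpf fun v hv => ?_
  rw [hb]
  obtain ⟨w, hw, e'⟩ := mul_pow_eq hbV hv (p ^ k)
  have h1 : (v * b) ^ (p ^ k * p ^ e) = 1 := by
    rw [pow_mul, e', ← hb, pow_orderOf_eq_one, mul_one, ← he]
    exact congrArg Subtype.val (pow_card_eq_one' (x := (⟨w, hw⟩ : V)))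
  rw [← pow_add] at h1
  obtain ⟨j, -, hj⟩ := (Nat.dvd_prime_pow hp.out).1 (orderOf_dvd_of_pow_eq_one h1)
  exact orderOf_dvd_iff_pow_eq_one.1 (hj ▸ pow_dvd_pow p (hmax _ j hj))

end CfsgLib.Lie.SuzSquare
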