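import Cfsg.Agent.Lib.Lie.SuzSquare.Arith
import Cfsg.Agent.Lib.Lie.SuzSquare.Semiregular
import Cfsg.Agent.Lib.Invol.Basic

/-!
# Minimal covers of a simple section

A cover is a subgroup mapped onto the simple group `T` with no proper subgroup mapped onto `T`: each normal
subgroup of it not inside the kernel is everything. Exponents give exact lifts.
-/

set_option autoImplicit false
set_option linter.style.haveILetI false
set_option linter.unusedSectionVars false

namespace CfsgLib.Lie.SuzSquare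

open Subgroup CfsgLib.Coprime

universe u v

/-- A subgroup mapped onto `T`, no proper subgroup of which is mapped onto `T`. -/
structure Cover (G : Type u) [Group G] (T : Type v) [Group T] where
  /-- the subgroup -/
  X : Subgroup G
  /-- the map -/
  f : X →* T
  surj : Function.Surjective f
  minimal : ∀ Y : Subgroup X, Y.map f = ⊤ → Y = ⊤

variable {G : Type u} [Group G] [Finite G] {T : Type v} [Group T]

theorem exists_cover {N : Subgroup G} (φ : N →* T) (hφ : Function.Surjective φ) :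
    ∃ (C : Cover G T) (h : C.X ≤ N), ∀ x : C.X, C.f x = φ (Subgroup.inclusion h x) := by
  obtain ⟨Y, hY, hmin⟩ := (wellFounded_lt (α := Subgroup N)).has_min {Y | Y.map φ = ⊤}
    ⟨⊤, map_top_of_surjective φ hφ⟩
  have hle : Y.map N.subtype ≤ N := map_subtype_le Y
  refine ⟨⟨Y.map N.subtype, φ.comp (Subgroup.inclusion hle), ?_, ?_⟩, hle, fun _ => rfl⟩
  · intro t
    obtain ⟨y, hy, rfl⟩ : t ∈ Y.map φ := hY.symm ▸ mem_top t
    exact ⟨⟨N.subtype y, mem_map_of_mem _ hy⟩, congrArg φ (Subtype.ext rfl)⟩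
  · intro Z hZ
    have hZY : Z.map (Subgroup.inclusion hle) ≤ Y := by
      rintro _ ⟨⟨z, w, hw, rfl⟩, -, rfl⟩
      exact hw
    have heq : Z.map (Subgroup.inclusion hle) = Y := hZY.eq_or_lt.resolve_right (hmin _ (by
      show (Z.map (Subgroup.inclusion hle)).map φ = ⊤
      rwa [Subgroup.map_map]))
    rw [eq_top_iff]
    rintro ⟨_, w, hw, rfl⟩ -
    obtain ⟨z, hz, e⟩ : w ∈ Z.map (Subgroup.inclusion hle) := heq.symm ▸ hw
    have hzw : (z : G) = (w : G) := congrArg Subtype.val e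
    exact (show z = ⟨N.subtype w, _⟩ from Subtype.ext hzw) ▸ hz

/-- Prime power lifts of `x`. -/
theorem exists_plift {H : Type*} [Group H] [Finite H] (φ : H →* T) (P : Subgroup H) {p : ℕ} (hp : p.Prime)
    {k : ℕ} {g : H} (hg : g ∈ P) (hx : orderOf (φ g) = p ^ k) :
    ∃ g' ∈ P, φ g' = φ g ∧ ∃ j, orderOf g' = p ^ j := by
  obtain ⟨a, s, hs, hn⟩ := Nat.exists_eq_pow_mul_and_not_dvd (orderOf_pos g).ne' p hp.ne_one
  have hcop : (p ^ k).Coprime s := ((Nat.Prime.coprime_iff_not_dvd hp).2 hs).pow_left k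
  obtain ⟨e, he1, he2⟩ := Nat.chineseRemainder hcop 1 0
  refine ⟨g ^ e, pow_mem hg e, ?_, ?_⟩
  · rw [map_pow]
    conv_rhs => rw [← pow_one (φ g)]
    rw [pow_eq_pow_iff_modEq, hx]
    exact he1
  · have h : (g ^ e) ^ p ^ a = 1 := by
      rw [← pow_mul]
      refine orderOf_dvd_iff_pow_eq_one.1 (hn ▸ ?_)
      rw [mul_comm e]
      exact mul_dvd_mul_left _ (Nat.modEq_zero_iff_dvd.1 he2)
    obtain ⟨j, -, hj⟩ := (Nat.dvd_prime_pow hp).1 (orderOf_dvd_of_pow_eq_one h)
    exact ⟨j, hj⟩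

variable (C : Cover G T)

/-- All `p`-lifts of `x` have the order of `x`. -/
def Cover.Exact (p : ℕ) (x : T) : Prop :=
  ∀ g : C.X, C.f g = x → (∃ j, orderOf g = p ^ j) → orderOf g = orderOf x

theorem Cover.exact_of_coprime {p k : ℕ} (hp : p.Prime) (hk : ¬ p ∣ Nat.card C.f.ker) {x : T}
    (hx : orderOf x = p ^ k) : C.Exact p x := by
  rintro g rfl ⟨j, hj⟩
  refine Nat.dvd_antisymm (orderOf_dvd_of_pow_eq_one ?_) (orderOf_map_dvd C.f g)
  have hmem : g ^ orderOf (C.f g) ∈ C.f.ker := by rw [MonoidHom.mem_ker, map_pow, pow_orderOf_eq_one]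
  refine orderOf_eq_one_iff.1 (Nat.Coprime.eq_one_of_dvd ?_ (orderOf_dvd_natCard _ hmem))
  exact Nat.Coprime.coprime_dvd_left ((orderOf_pow_dvd _).trans hj.dvd)
    (((Nat.Prime.coprime_iff_not_dvd hp).2 hk).pow_left j)

theorem Cover.exact_of_max {p k : ℕ} (hp : p.Prime) (hmax : ∀ g : G, ∀ j : ℕ, orderOf g = p ^ j → j ≤ k)
    {x : T} (hx : orderOf x = p ^ k) : C.Exact p x := by
  rintro g rfl ⟨j, hj⟩
  refine Nat.dvd_antisymm ?_ (orderOf_map_dvd C.f g)
  rw [hj, hx]
  exact pow_dvd_pow p (hmax g j ((Subgroup.orderOf_coe g).trans hj))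

/-- A `p`-lift normalising a lift of a normalised subgroup. -/
theorem Cover.exists_normalizing {q p : ℕ} [Fact q.Prime] (hp : p.Prime) {U : Subgroup T} (hU : IsPGroup q U)
    {x : T} (hxU : x ∈ normalizer (U : Set T)) {k : ℕ} (hx : orderOf x = p ^ k) :
    ∃ (P : Subgroup C.X) (g : C.X), IsPGroup q P ∧ P.map C.f = U ∧
      (∀ Q : Subgroup C.X, IsPGroup q Q → Q.map C.f ≤ U → Nat.card Q ∣ Nat.card P) ∧
      g ∈ normalizer (P : Set C.X) ∧ C.f g = x ∧ ∃ j, orderOf g = p ^ j := by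
  set M := U.comap C.f
  obtain ⟨S⟩ : Nonempty (Sylow q M) := inferInstance
  have hS := isSylowIn_map S
  set P := (S : Subgroup M).map M.subtype
  have hPp : IsPGroup q P := hS.isPGroup
  have hmap : P.map C.f = U := by
    let φ : M →* U := C.f.subgroupComap U
    have hφ : Function.Surjective φ := fun u => by
      obtain ⟨g, hg⟩ := C.surj u
      exact ⟨⟨g, show C.f g ∈ U from hg ▸ u.2⟩, Subtype.ext hg⟩
    have h1 : ((S.mapSurjective hφ : Sylow q U) : Subgroup U) = ⊤ :=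
      (S.mapSurjective hφ).3 (hU.of_equiv Subgroup.topEquiv.symm) le_top ▸ rfl
    ext u
    constructor
    · rintro ⟨w, hw, rfl⟩
      exact (map_subtype_le (S : Subgroup M) hw : w ∈ M)
    · intro hu
      obtain ⟨w, hw, e⟩ : (⟨u, hu⟩ : U) ∈ (S : Subgroup M).map φ := by
        have := h1
        rw [Sylow.coe_mapSurjective] at this
        rw [this]; exact mem_top _
      exact ⟨w, mem_map_of_mem _ hw, congrArg Subtype.val e⟩
  obtain ⟨b, hb⟩ := C.surj x
  have hbM : b ∈ normalizer (M : Set C.X) := mem_normalizer_iff.2 fun w => by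
    show C.f w ∈ U ↔ C.f (b * w * b⁻¹) ∈ U
    rw [map_mul, map_mul, map_inv, hb]
    exact mem_normalizer_iff.1 hxU (C.f w)
  obtain ⟨m, hm, hconj⟩ := hS.exists_conj (hS.conjBy hbM)
  obtain ⟨w, hw, e⟩ : C.f m ∈ P.map C.f := hmap.symm ▸ hm
  set κ := m * w⁻¹ with hκ
  have hκ1 : C.f κ = 1 := by rw [hκ, map_mul, map_inv, e, mul_inv_cancel]
  have hn : κ⁻¹ * b ∈ normalizer (P : Set C.X) := by
    refine conjBy_eq_self_iff.1 ?_
    rw [← conjBy_conjBy, ← hconj, conjBy_conjBy, hκ,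
      show (m * w⁻¹)⁻¹ * m = w by group]
    exact conjBy_eq_self_of_mem hw
  have hfx : C.f (κ⁻¹ * b) = x := by rw [map_mul, map_inv, hκ1, hb, inv_one, one_mul]
  obtain ⟨g, hgN, hgf, hgo⟩ := exists_plift C.f (normalizer (P : Set C.X)) hp hn (hfx.symm ▸ hx)
  refine ⟨P, g, hPp, hmap, fun Q hQ hQU => ?_, hgN, hgf.trans hfx, hgo⟩
  have hQM : Q ≤ M := fun y hy => hQU (mem_map_of_mem _ hy)
  obtain ⟨j, hj⟩ := hQ.exists_card_eq
  rw [hS.2, hj]
  exact pow_dvd_pow q ((Nat.Prime.pow_dvd_iff_le_factorization Fact.out Nat.card_pos.ne').1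
    (hj ▸ card_dvd_of_le hQM))

variable [IsSimpleGroup T]

/-- A normal subgroup of a cover outside the kernel is everything. -/
theorem Cover.normal_top {Y : Subgroup C.X} [hY : Y.Normal] {y : C.X} (hy : y ∈ Y) (hy1 : C.f y ≠ 1) : Y = ⊤ :=
  C.minimal Y (((hY.map C.f C.surj).eq_bot_or_eq_top).resolve_left fun h =>
    hy1 (Subgroup.mem_bot.1 (h ▸ mem_map_of_mem C.f hy)))

/-- One element outside the kernel centralizing an invariant set: all do. -/
theorem Cover.centralizes {V : Subgroup G} (hV : C.X ≤ normalizer (V : Set G)) {x : C.X} (hx1 : C.f x ≠ 1)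
    (hx : (x : G) ∈ centralizer (V : Set G)) : C.X ≤ centralizer (V : Set G) := by
  haveI : ((centralizer (V : Set G)).subgroupOf C.X).Normal := ⟨fun z hz g => by
    rw [mem_subgroupOf] at hz ⊢
    push_cast
    exact (mem_normalizer_iff.1 (normalizer_le_normalizer_centralizer V (hV g.2)) _).1 hz⟩
  exact subgroupOf_eq_top.1 (C.normal_top (Y := (centralizer (V : Set G)).subgroupOf C.X) hx hx1)

/-- A cover centralizes the cyclic groups it normalises. -/
theorem Cover.centralizes_cyclic (hna : ¬ IsMulCommutative T) {M : Subgroup G} (hc : IsCyclic M)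
    (hM : C.X ≤ normalizer (M : Set G)) : C.X ≤ centralizer (M : Set G) := by
  obtain ⟨a, b, hab⟩ : ∃ a b : T, a * b ≠ b * a := by
    by_contra h
    push Not at h
    exact hna (isMulCommutative_iff.2 h)
  obtain ⟨g, rfl⟩ := C.surj a
  obtain ⟨h, rfl⟩ := C.surj b
  let c : C.X →* MulAut M := M.normalizerMonoidHom.comp (Subgroup.inclusion hM)
  have hcomm : ∀ α β : MulAut M, α * β = β * α := fun α β => by
    haveI := hc
    obtain ⟨i, hi⟩ := MonoidHom.map_cyclic α.toMonoidHom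
    obtain ⟨j, hj⟩ := MonoidHom.map_cyclic β.toMonoidHom
    refine MulEquiv.ext fun w => ?_
    show α (β w) = β (α w)
    have hα : ∀ z, α z = z ^ i := hi
    have hβ : ∀ z, β z = z ^ j := hj
    rw [hα, hβ, hα, hβ, ← zpow_mul, ← zpow_mul, mul_comm]
  refine C.centralizes hM (x := g * h * g⁻¹ * h⁻¹) ?_ (mem_centralizer_iff.2 fun w hw => ?_)
  · rw [map_mul, map_mul, map_mul, map_inv, map_inv]
    exact fun e => hab (mul_inv_eq_iff_eq_mul.1 (mul_inv_eq_one.1 e))
  · have he : c (g * h * g⁻¹ * h⁻¹) = 1 := by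
      rw [map_mul, map_mul, map_mul, map_inv, map_inv, hcomm (c g), mul_inv_cancel_right, mul_inv_cancel]
    have := congrArg Subtype.val (MulEquiv.congr_fun he ⟨w, hw⟩)
    exact (mul_inv_eq_iff_eq_mul.1 this).symm

end CfsgLib.Lie.SuzSquare
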