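import Cfsg.Agent.Lib.Lie.SuzSquare.OneFactor
import Cfsg.Agent.Lib.Coprime.FpfAction

/-!
# A solvable kernel below two commuting Suzuki sections

All primes of such a kernel divide `q - 1`, and then both sections are over smaller fields: a prime of `q ^ 2 + 1`,
or the prime `2`, in a minimal normal subgroup gives three commuting elements of three classes.
-/

set_option autoImplicit false
set_option linter.style.haveILetI false
set_option linter.unusedSectionVars false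

namespace CfsgLib.Lie.SuzSquare

open Subgroup CfsgLib.Coprime CfsgLib.PGroup.FourPrimes

universe u v

/-- A prime of `q' - 1` does not divide `q ^ 2 + 1`. -/
theorem not_one_and_torus {n m p : ℕ} (hp : p.Prime) (h1 : p ∣ cls n 1) : ¬ p ∣ (2 ^ (2 * m + 1)) ^ 2 + 1 := by
  intro h2
  haveI := Fact.mk hp
  have hp2 : p ≠ 2 := by
    rintro rfl
    exact Nat.not_even_iff_odd.2 (cls_odd n (i := 1) (by decide)) (even_iff_two_dvd.2 h1)
  have e1 : (2 : ZMod p) ^ (2 * n + 1) = 1 := by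
    have h := (ZMod.natCast_eq_zero_iff _ p).2 h1
    rw [cls_one, Nat.cast_sub (Nat.one_le_two_pow), Nat.cast_pow, Nat.cast_one, sub_eq_zero] at h
    exact h
  have e2 : ((2 : ZMod p) ^ (2 * m + 1)) ^ 2 = -1 := by
    have h := (ZMod.natCast_eq_zero_iff _ p).2 h2
    push_cast at h
    exact eq_neg_of_add_eq_zero_left h
  have h := congrArg (· ^ (2 * n + 1)) e2
  simp only [← pow_mul] at h
  rw [show (2 * m + 1) * 2 * (2 * n + 1) = (2 * n + 1) * ((2 * m + 1) * 2) by ring, pow_mul, e1, one_pow,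
    Odd.neg_one_pow ⟨n, rfl⟩] at h
  have h3 : ((2 : ℕ) : ZMod p) = 0 := by
    push_cast
    linear_combination h
  exact hp2 ((Nat.prime_dvd_prime_iff_eq hp Nat.prime_two).1 ((ZMod.natCast_eq_zero_iff _ p).1 h3))

/-- The primes of `q' - 1` are primes of `q - 1` or none. -/
theorem class_one {n m p : ℕ} (hp : p.Prime) (h : p ∣ cls n 1) {l : Fin 4} (hl : p ∣ cls m l) : l = 1 := by
  by_contra hl1
  refine not_one_and_torus (m := m) hp h ?_
  rw [← cls_prod]
  fin_cases l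
  · have h4 : p ∣ 2 ^ 2 := hl
    rw [(Nat.prime_dvd_prime_iff_eq hp Nat.prime_two).1 (hp.dvd_of_dvd_pow h4)] at h
    exact absurd (even_iff_two_dvd.2 h) (Nat.not_even_iff_odd.2 (cls_odd n (i := 1) (by decide)))
  · exact absurd rfl hl1
  · exact dvd_mul_of_dvd_left hl _
  · exact dvd_mul_of_dvd_right hl _

/-- The primes of the tori are none of `q - 1`. -/
theorem not_one_of_torus {n m p : ℕ} (hp : p.Prime) (h : p ∣ cls n 2 * cls n 3) : ¬ p ∣ cls m 1 :=
  fun h1 => not_one_and_torus (m := n) hp h1 (cls_prod n ▸ h)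

theorem two_dvd_cls (m : ℕ) : 2 ∣ cls m 0 := by rw [cls_zero]; norm_num

variable {G : Type u} [Group G] [Finite G] {Q : Type v} [Group Q]

theorem le_normalizer_ker (f : G →* Q) (X : Subgroup G) : X ≤ normalizer (f.ker : Set G) :=
  le_top.trans (normalizer_eq_top_iff.2 (inferInstance : f.ker.Normal)).ge

theorem exists_cover_le (f : G →* Q) (T : Subgroup Q) (N : Subgroup G) (hN : ∀ y ∈ T, ∃ x ∈ N, f x = y) :
    ∃ C : Cover G T, C.X ≤ N ∧ ∀ x : C.X, ((C.f x : T) : Q) = f x := by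
  let φ : (N ⊓ T.comap f : Subgroup G) →* T :=
    (f.comp (Subgroup.subtype _)).codRestrict T fun x => x.2.2
  obtain ⟨C, h, hC⟩ := exists_cover φ fun t => by
    obtain ⟨x, hx, hxt⟩ := hN t t.2
    exact ⟨⟨x, hx, mem_comap.2 (by rw [hxt]; exact t.2)⟩, Subtype.ext hxt⟩
  exact ⟨C, h.trans inf_le_left, fun x => by rw [hC]; rfl⟩

/-- A lift of a commuting element commuting with a lift of coprime order. -/
theorem exists_commuting_lift (f : G →* Q) {N : Subgroup G} {g x : G} (hg : g ∈ N) (hx : x ∈ N)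
    (hc : Commute (f g) (f x)) (hcop : (orderOf g).Coprime (Nat.card (N ⊓ f.ker : Subgroup G))) :
    ∃ b ∈ N, f b = f x ∧ Commute g b := by
  have hNk : N ≤ normalizer ((N ⊓ f.ker : Subgroup G) : Set G) :=
    inf_le_normalizer le_normalizer (le_normalizer_ker f N)
  obtain ⟨k, hk, hc'⟩ := exists_fixed_in_coset (A := zpowers g) (N := N ⊓ f.ker) (k := x)
    ((zpowers_le.2 hg).trans hNk) (by rwa [Nat.card_zpowers]) (Or.inl (isSolvable_of_isMulCommutative inferInstance))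
    (hNk hx) (fun a ha => by
      refine Subgroup.mem_inf.2
        ⟨mul_mem (mul_mem (mul_mem (zpowers_le.2 hg ha) hx) (inv_mem (zpowers_le.2 hg ha))) (inv_mem hx), ?_⟩
      obtain ⟨z, rfl⟩ := mem_zpowers_iff.1 ha
      rw [MonoidHom.mem_ker, map_mul, map_mul, map_mul, map_inv, map_inv, map_zpow,
        (hc.zpow_left z).eq]
      group)
  exact ⟨x * k, mul_mem hx hk.1, by rw [map_mul, MonoidHom.mem_ker.1 hk.2, mul_one],
    mem_centralizer_iff.1 hc' g (mem_zpowers g)⟩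

/-- A subgroup covering a section, cut by the centraliser of a coprime element acting trivially on it. -/
theorem cover_commuting (f : G →* Q) {T : Subgroup Q} {N : Subgroup G} (hN : ∀ y ∈ T, ∃ x ∈ N, f x = y) {g : G}
    (hg : g ∈ N) (hc : ∀ y ∈ T, Commute (f g) y) (hcop : (orderOf g).Coprime (Nat.card (N ⊓ f.ker : Subgroup G))) :
    ∀ y ∈ T, ∃ b ∈ N ⊓ centralizer ({g} : Set G), f b = y := by
  intro y hy
  obtain ⟨x, hx, rfl⟩ := hN y hy
  obtain ⟨b, hb, hbf, hgb⟩ := exists_commuting_lift f hg hx (hc _ hy) hcop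
  exact ⟨b, ⟨hb, mem_centralizer_singleton_iff.2 hgb.symm⟩, hbf⟩

variable {T : Subgroup Q}

theorem Cover.not_dvd_ker (C : Cover G T) {f : G →* Q} (hC : ∀ x : C.X, ((C.f x : T) : Q) = f x)
    {N : Subgroup G} (hN : C.X ≤ N) {p : ℕ} (hp : ¬ p ∣ Nat.card (N ⊓ f.ker : Subgroup G)) :
    ¬ p ∣ Nat.card C.f.ker := by
  refine fun hd => hp (hd.trans ?_)
  rw [← card_map_of_injective (K := C.f.ker) C.X.subtype_injective]
  refine card_dvd_of_le ?_
  rintro _ ⟨x, hx, rfl⟩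
  exact ⟨hN x.2, MonoidHom.mem_ker.2 ((hC x).symm.trans (by rw [MonoidHom.mem_ker.1 hx]; rfl))⟩

theorem Cover.exists_orderOf [Finite Q] (C : Cover G T) {p : ℕ} (hp : p.Prime) {y : T} (hy : p ∣ orderOf y) :
    ∃ g ∈ C.X, orderOf g = p := by
  obtain ⟨x, rfl⟩ := C.surj y
  exact exists_orderOf_eq hp ((hy.trans (orderOf_map_dvd C.f x)).trans (orderOf_dvd_natCard x))

theorem Model.exists_five {T' : Type*} [Group T'] {n : ℕ} (h : Model T' n) : ∃ y : T', 5 ∣ orderOf y := by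
  obtain ⟨i, -, hi⟩ := five_cls n
  obtain ⟨y, hy⟩ := h.exists_order i
  exact ⟨y, hy ▸ hi⟩

theorem Model.exists_small {T' : Type*} [Group T'] {n : ℕ} (h : Model T' n) :
    ∃ p : ℕ, p.Prime ∧ p ∣ cls n 1 ∧ ∃ y : T', p ∣ orderOf y := by
  obtain ⟨p, hp, hd⟩ := Nat.exists_prime_and_dvd (show cls n 1 ≠ 1 by
    rw [cls_one]
    have := Nat.pow_le_pow_right (show 0 < 2 by norm_num) (show 3 ≤ 2 * n + 1 by have := h.one_le; omega)
    omega)
  obtain ⟨y, hy⟩ := h.exists_order 1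
  exact ⟨p, hp, hd, y, hy ▸ hd⟩

variable [Finite Q] {m n₁ n₂ : ℕ} {T₁ T₂ : Subgroup Q}

/-- An abelian kernel of prime exponent below two sections. -/
theorem abelian_kernel (hsub : Sub G m) (f : G →* Q) (hf : Function.Surjective f)
    (hc : ∀ x ∈ T₁, ∀ y ∈ T₂, Commute x y) (h₁ : Model T₁ n₁) (h₂ : Model T₂ n₂) [IsMulCommutative f.ker]
    {p : ℕ} (hp : p.Prime) (hexp : ∀ x ∈ f.ker, x ^ p = 1) (hV0 : f.ker ≠ ⊥) : p ∣ cls m 1 ∧ n₁ ≠ m := by
  haveI := h₁.simple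
  haveI := h₂.simple
  haveI := Fact.mk hp
  haveI := Fact.mk Nat.prime_two
  have hVp : IsPGroup p f.ker := fun x => ⟨1, Subtype.ext (by simpa using hexp x x.2)⟩
  obtain ⟨l, hl⟩ := (hsub.of_injective f.ker.subtype f.ker.subtype_injective).exists_cls_card hp
    (prime_eq_of_pow hp hV0 hexp)
  obtain ⟨v₀, hv₀, hv₀1⟩ := f.ker.bot_or_exists_ne_one.resolve_left hV0
  have hNV := le_normalizer_ker f
  have hnd : ∀ (N : Subgroup G) (r : ℕ), r.Prime → r ≠ p → ¬ r ∣ Nat.card (N ⊓ f.ker : Subgroup G) :=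
    fun N r hr hne => not_dvd_of_pow hp hr hne fun x hx => hexp x hx.2
  have hcov : ∀ (T : Subgroup Q), ∀ y ∈ T, ∃ x ∈ (⊤ : Subgroup G), f x = y := fun T y _ => by
    obtain ⟨x, rfl⟩ := hf y
    exact ⟨x, mem_top x, rfl⟩
  obtain ⟨C₂, hC₂N, hC₂⟩ := exists_cover_le f T₂ ⊤ (hcov T₂)
  rcases eq_or_ne p 2 with rfl | hp2
  · exfalso
    have hex : ∀ {T : Subgroup Q} (C : Cover G T), (∀ x : C.X, ((C.f x : T) : Q) = f x) → ∀ (n : ℕ) (q k : ℕ),
        q.Prime → 1 ≤ k → q ^ k ∣ cls n 2 * cls n 3 → ¬ q ^ (k + 1) ∣ cls n 2 * cls n 3 →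
        ∀ τ : T, orderOf τ = q ^ k → C.Exact q τ := fun C hC n q k hq hk hd _ τ hτ =>
      C.exact_of_coprime hq (C.not_dvd_ker hC le_top (hnd ⊤ q hq (odd_torus_prime hq hk hd))) hτ
    obtain ⟨C₁, hC₁N, hC₁⟩ := exists_cover_le f T₁ ⊤ (hcov T₁)
    have hz₁ := C₁.two_trivial hsub h₁.torus (hex C₁ hC₁ n₁) hVp (hNV _)
    obtain ⟨y, hy⟩ := h₁.exists_five
    obtain ⟨g, hg, hgo⟩ := C₁.exists_orderOf Nat.prime_five hy
    have hfg : f g ∈ T₁ := hC₁ ⟨g, hg⟩ ▸ (C₁.f ⟨g, hg⟩).2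
    obtain ⟨C, hCN, hC⟩ := exists_cover_le f T₂ _ (cover_commuting f (hcov T₂) (mem_top g) (fun y hy => hc _ hfg y hy)
      (hgo ▸ (Nat.prime_five.coprime_iff_not_dvd).2 (hnd ⊤ 5 Nat.prime_five (by norm_num))))
    have hz := C.two_trivial hsub h₂.torus (hex C hC n₂) hVp (hNV _)
    obtain ⟨a, ha, had, y', hy'⟩ := h₂.exists_small
    obtain ⟨x, hx, hxo⟩ := C.exists_orderOf ha hy'
    obtain ⟨la, hla⟩ := hsub.exists_cls ha hxo.symm.dvd
    obtain rfl := class_one ha had hla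
    obtain ⟨i, hi, h5⟩ := five_cls m
    exact hsub.no_three Nat.prime_five ha Nat.prime_two h5 hla (two_dvd_cls m)
      (by rcases hi with rfl | rfl <;> decide) (by rcases hi with rfl | rfl <;> decide) (by decide) hgo hxo
      (orderOf_eq_prime (hexp v₀ hv₀) hv₀1) (mem_centralizer_singleton_iff.1 (hCN hx).2).symm
      (mem_centralizer_iff.1 (hz₁ hg) v₀ hv₀).symm (mem_centralizer_iff.1 (hz hx) v₀ hv₀).symm
  have hl0 : l ≠ 0 := by
    rintro rfl
    rw [cls_zero, show (4 : ℕ) = 2 ^ 2 by norm_num] at hl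
    exact hp2 ((Nat.prime_dvd_prime_iff_eq hp Nat.prime_two).1 (hp.dvd_of_dvd_pow hl))
  have hodd : ∀ V ≤ f.ker, Odd (Nat.card V) := fun V hV => by
    obtain ⟨k, hk⟩ := (hVp.to_le hV).exists_card_eq
    rw [hk]
    exact (hp.odd_of_ne_two hp2).pow
  obtain ⟨t, ht, htf⟩ := C₂.exists_involution hsub h₂.torus
  have ht' : orderOf (t : G) = 2 := (Subgroup.orderOf_coe t).trans ht
  obtain ⟨w₀, hw₀, hw₀1, htw₀⟩ :=
    C₂.exists_fixed_involution h₂.noncomm ht htf hV0 (hodd _ le_rfl) (hNV _)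
  set W := f.ker ⊓ centralizer ({(t : G)} : Set G)
  have hW0 : W ≠ ⊥ := fun h => hw₀1 (mem_bot.1 (h ▸ ⟨hw₀, mem_centralizer_singleton_iff.2 htw₀.symm⟩))
  haveI : IsMulCommutative W := isMulCommutative_iff.2 fun a b => Subtype.ext
    (congrArg Subtype.val (isMulCommutative_iff.1 (inferInstance : IsMulCommutative f.ker) ⟨a, a.2.1⟩ ⟨b, b.2.1⟩) :)
  obtain ⟨C₁, hC₁N, hC₁⟩ := exists_cover_le f T₁ _ (cover_commuting f (hcov T₁) (mem_top (t : G))
    (fun y hy => (hc y hy _ (hC₂ t ▸ (C₂.f t).2)).symm)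
    (ht' ▸ (Nat.prime_two.coprime_iff_not_dvd).2 (hnd ⊤ 2 Nat.prime_two hp2.symm)))
  have hXW : C₁.X ≤ normalizer (W : Set G) := inf_le_normalizer (hNV _) fun x hx => le_normalizer (hC₁N hx).2
  have hWord : ∀ w ∈ W, w ≠ 1 → orderOf w = p := fun w hw hw1 => orderOf_eq_prime (hexp w hw.1) hw1
  have hex : ∀ (q k : ℕ), q.Prime → q ≠ p → ∀ τ : T₁, orderOf τ = q ^ k → C₁.Exact q τ :=
    fun q k hq hne τ hτ => C₁.exact_of_coprime hq (C₁.not_dvd_ker hC₁ le_top (hnd ⊤ q hq hne)) hτ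
  by_cases hl1 : l = 1
  · subst hl1
    refine ⟨hl, fun hn => ?_⟩
    subst hn
    have hz := C₁.a_trivial hsub h₁ hp hl ((hVp).to_le inf_le_left) hXW
    obtain ⟨y, hy⟩ := h₁.exists_five
    obtain ⟨g, hg, hgo⟩ := C₁.exists_orderOf Nat.prime_five hy
    obtain ⟨w, hw, hw1⟩ := W.bot_or_exists_ne_one.resolve_left hW0
    obtain ⟨i, hi, h5⟩ := five_cls n₁
    exact hsub.no_three Nat.prime_five Nat.prime_two hp h5 (two_dvd_cls _) hl
      (by rcases hi with rfl | rfl <;> decide) (by rcases hi with rfl | rfl <;> decide) (by decide) hgo ht'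
      (hWord w hw hw1) (mem_centralizer_singleton_iff.1 (hC₁N hg).2)
      (mem_centralizer_iff.1 (hz hg) w hw).symm (mem_centralizer_singleton_iff.1 hw.2).symm
  · exfalso
    obtain ⟨p₁, hp₁, hp₁d, -⟩ := h₁.exists_small
    obtain ⟨k, s, hs, hks⟩ := Nat.exists_eq_pow_mul_and_not_dvd (cls_pos n₁ 1).ne' p₁ hp₁.ne_one
    have hk : 1 ≤ k := by
      rcases Nat.eq_zero_or_pos k with rfl | h
      · simp at hks; exact absurd (hks ▸ hp₁d) hs
      · exact h
    have hnd' : ¬ p₁ ^ (k + 1) ∣ cls n₁ 1 := fun h => hs (by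
      rw [hks, pow_succ] at h
      exact Nat.dvd_of_mul_dvd_mul_left (pow_pos hp₁.pos k) h)
    have hp₁p : p₁ ≠ p := fun e => hl1 (class_one hp₁ hp₁d (e ▸ hl))
    obtain ⟨g, A, hgo, hgf, hA2, hAX, hgA, hfpf, hAnt⟩ := C₁.exists_borel_lift hsub h₁.borel
      (fun z hz h2 => by
        obtain ⟨j, hj⟩ := h2
        rcases j with _ | j
        · rw [pow_zero, orderOf_eq_one_iff] at hj; subst hj; exact one_mem _
        · refine absurd ?_ (C₁.not_dvd_ker hC₁ le_top (hnd ⊤ 2 Nat.prime_two hp2.symm))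
          exact ((dvd_pow_self 2 (Nat.succ_ne_zero j)).trans hj.symm.dvd).trans
            (Subgroup.orderOf_dvd_natCard _ (MonoidHom.mem_ker.2 hz)))
      hp₁ hk (hks ▸ dvd_mul_right _ _) hnd' fun x hx => hex p₁ k hp₁ hp₁p x hx
    obtain ⟨w, hw, hw1, hgw⟩ := C₁.borel_fixed hA2 hAX hgA hfpf hAnt hp2
      (fun h => hp₁p ((Nat.prime_dvd_prime_iff_eq hp hp₁).1 (hp.dvd_of_dvd_pow (hgo ▸ h))).symm)
      (hVp.to_le inf_le_left) hW0 hXW
    obtain ⟨x₁, hx₁, hx₁o⟩ := exists_orderOf_eq (X := zpowers (g : G)) hp₁ (by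
      rw [Nat.card_zpowers, Subgroup.orderOf_coe, hgo]; exact dvd_pow_self p₁ (by omega))
    obtain ⟨z, rfl⟩ := hx₁
    obtain ⟨l₁, hl₁⟩ := hsub.exists_cls hp₁ hx₁o.symm.dvd
    obtain rfl := class_one hp₁ hp₁d hl₁
    exact hsub.no_three hp₁ Nat.prime_two hp hl₁ (two_dvd_cls m) hl (by decide) (Ne.symm hl1) hl0.symm hx₁o
      ht' (hWord w hw hw1) (Commute.zpow_left (mem_centralizer_singleton_iff.1 (hC₁N g.2).2) z)
      (hgw.zpow_left z) (mem_centralizer_singleton_iff.1 hw.2).symm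

/-- A minimal normal subgroup of another prime than those of `q - 1`, complemented in the kernel by a group of
order prime to it, gives three classes. -/
theorem hall_false (hsub : Sub G m) (f : G →* Q) (hc : ∀ x ∈ T₁, ∀ y ∈ T₂, Commute x y) (h₁ : Model T₁ n₁)
    (h₂ : Model T₂ n₂) {V A N : Subgroup G} [IsMulCommutative V] [V.Normal] {v : ℕ} (hv : v.Prime)
    (hexp : ∀ x ∈ V, x ^ v = 1) (hV0 : V ≠ ⊥) (hv1 : ¬ v ∣ cls m 1) (hNA : N ⊓ f.ker = A)
    (hN : ∀ y : Q, ∃ x ∈ N, f x = y) (hAπ : IsPiNum {p | p ∣ cls m 1} (Nat.card A))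
    (hAs : Group.IsSolvable A) (hA0 : A ≠ ⊥) : False := by
  haveI := h₁.simple
  haveI := h₂.simple
  haveI := Fact.mk hv
  haveI := Fact.mk Nat.prime_two
  have hVp : IsPGroup v V := fun x => ⟨1, Subtype.ext (by simpa using hexp x x.2)⟩
  obtain ⟨v₀, hv₀, hv₀1⟩ := V.bot_or_exists_ne_one.resolve_left hV0
  obtain ⟨l, hl⟩ := (hsub.of_injective V.subtype V.subtype_injective).exists_cls_card hv
    (prime_eq_of_pow hv hV0 hexp)
  have hXV : ∀ X : Subgroup G, X ≤ normalizer (V : Set G) := fun X =>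
    le_top.trans (normalizer_eq_top_iff.2 ‹V.Normal›).ge
  have hnd : ∀ {r : ℕ}, r.Prime → ¬ r ∣ cls m 1 → ¬ r ∣ Nat.card (N ⊓ f.ker : Subgroup G) :=
    fun hr hr1 hd => hr1 (hAπ _ hr (hNA ▸ hd))
  have h2 : ¬ 2 ∣ cls m 1 := fun h =>
    Nat.not_even_iff_odd.2 (cls_odd m (i := 1) (by decide)) (even_iff_two_dvd.2 h)
  obtain ⟨i, hi, h5⟩ := five_cls m
  have hi1 : i ≠ 1 ∧ i ≠ 0 := by rcases hi with rfl | rfl <;> decide
  have h51 : ¬ 5 ∣ cls m 1 := fun h => hi1.1 (cls_disjoint Nat.prime_five h5 h)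
  have hcov : ∀ (T : Subgroup Q), ∀ y ∈ T, ∃ x ∈ N, f x = y := fun _ y _ => hN y
  rcases eq_or_ne v 2 with rfl | hv2
  · have hex : ∀ {T : Subgroup Q} (C : Cover G T), (∀ x : C.X, ((C.f x : T) : Q) = f x) → C.X ≤ N →
        ∀ (n : ℕ) (q k : ℕ), q.Prime → 1 ≤ k → q ^ k ∣ cls n 2 * cls n 3 → ¬ q ^ (k + 1) ∣ cls n 2 * cls n 3 →
        ∀ τ : T, orderOf τ = q ^ k → C.Exact q τ := fun C hC hCN n q k hq hk hd _ τ hτ =>
      C.exact_of_coprime hq (C.not_dvd_ker hC hCN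
        (hnd hq (not_one_of_torus hq ((dvd_pow_self q (by omega)).trans hd)))) hτ
    obtain ⟨C₁, hC₁N, hC₁⟩ := exists_cover_le f T₁ N (hcov T₁)
    have hz₁ := C₁.two_trivial hsub h₁.torus (hex C₁ hC₁ hC₁N n₁) hVp (hXV _)
    obtain ⟨y, hy⟩ := h₁.exists_five
    obtain ⟨g, hg, hgo⟩ := C₁.exists_orderOf Nat.prime_five hy
    have hfg : f g ∈ T₁ := hC₁ ⟨g, hg⟩ ▸ (C₁.f ⟨g, hg⟩).2
    obtain ⟨C, hCN, hC⟩ := exists_cover_le f T₂ _ (cover_commuting f (hcov T₂) (hC₁N hg) (fun y hy => hc _ hfg y hy)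
      (hgo ▸ (Nat.prime_five.coprime_iff_not_dvd).2 (hnd Nat.prime_five h51)))
    have hz := C.two_trivial hsub h₂.torus (hex C hC (hCN.trans inf_le_left) n₂) hVp (hXV _)
    obtain ⟨a, ha, had, y', hy'⟩ := h₂.exists_small
    obtain ⟨x, hx, hxo⟩ := C.exists_orderOf ha hy'
    obtain ⟨la, hla⟩ := hsub.exists_cls ha hxo.symm.dvd
    obtain rfl := class_one ha had hla
    exact hsub.no_three Nat.prime_five ha Nat.prime_two h5 hla (two_dvd_cls m) hi1.1 hi1.2 (by decide) hgo hxo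
      (orderOf_eq_prime (hexp v₀ hv₀) hv₀1) (mem_centralizer_singleton_iff.1 (hCN hx).2).symm
      (mem_centralizer_iff.1 (hz₁ hg) v₀ hv₀).symm (mem_centralizer_iff.1 (hz hx) v₀ hv₀).symm
  have hl0 : l ≠ 0 := by
    rintro rfl
    rw [cls_zero, show (4 : ℕ) = 2 ^ 2 by norm_num] at hl
    exact hv2 ((Nat.prime_dvd_prime_iff_eq hv Nat.prime_two).1 (hv.dvd_of_dvd_pow hl))
  have hl1 : l ≠ 1 := fun h => hv1 (h ▸ hl)
  obtain ⟨C₂, hC₂N, hC₂⟩ := exists_cover_le f T₂ N (hcov T₂)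
  obtain ⟨t, ht, htf⟩ := C₂.exists_involution hsub h₂.torus
  have ht' : orderOf (t : G) = 2 := (Subgroup.orderOf_coe t).trans ht
  have hNA' : N ≤ normalizer (A : Set G) := hNA ▸ inf_le_normalizer le_normalizer (le_normalizer_ker f N)
  -- the involution fixes a point of the Hall group
  obtain ⟨B, r, hr, hBA, hB0, hBN, hBc, hBr, hrd, -⟩ :=
    exists_minimal_invariant hAs hA0 (hC₂N.trans hNA')
  have hr1 : r ∣ cls m 1 := hAπ r hr hrd
  obtain ⟨b, hb, hb1, htb⟩ := C₂.exists_fixed_involution h₂.noncomm ht htf hB0 (by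
    obtain ⟨k, hk⟩ := card_eq_pow hr hBr
    rw [hk]
    exact ((cls_odd m (i := 1) (by decide)).of_dvd_nat hr1).pow) hBN
  obtain ⟨C₁, hC₁N, hC₁⟩ := exists_cover_le f T₁ _ (cover_commuting f (hcov T₁) (hC₂N t.2)
    (fun y hy => (hc y hy _ (hC₂ t ▸ (C₂.f t).2)).symm)
    (ht' ▸ (Nat.prime_two.coprime_iff_not_dvd).2 (hnd Nat.prime_two h2)))
  set A₁ := A ⊓ centralizer ({(t : G)} : Set G)
  have hA₁0 : A₁ ≠ ⊥ := fun h => hb1 (mem_bot.1 (h ▸ ⟨hBA hb, mem_centralizer_singleton_iff.2 htb.symm⟩))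
  obtain ⟨M, r', hr', hMA, hM0, hXM, hMc, hMr, hrd', -⟩ :=
    exists_minimal_invariant (X := A₁) (K := C₁.X) (isSolvable_of_le inf_le_left hAs) hA₁0
      (inf_le_normalizer ((hC₁N.trans inf_le_left).trans hNA') fun x hx => le_normalizer (hC₁N hx).2)
  have hr'1 : r' ∣ cls m 1 := hAπ r' hr' (hrd'.trans (card_dvd_of_le inf_le_left))
  haveI := Fact.mk hr'
  have hMt : ∀ x ∈ M, Commute x (t : G) := fun x hx => mem_centralizer_singleton_iff.1 (hMA hx).2
  -- it is fixed-point-free on the points of the involution in the module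
  obtain ⟨w₀, hw₀, hw₀1, htw₀⟩ := C₂.exists_fixed_involution h₂.noncomm ht htf hV0 (by
    obtain ⟨k, hk⟩ := card_eq_pow hv hexp
    rw [hk]
    exact (hv.odd_of_ne_two hv2).pow) (hXV _)
  set W := V ⊓ centralizer ({(t : G)} : Set G)
  have hW0 : W ≠ ⊥ := fun h => hw₀1 (mem_bot.1 (h ▸ ⟨hw₀, mem_centralizer_singleton_iff.2 htw₀.symm⟩))
  have hfree : IsFpfOn M W := fun x hx hx1 => (eq_bot_iff_forall _).2 fun w hw => by
    by_contra hw1
    exact hsub.no_three Nat.prime_two hr' hv (two_dvd_cls m) hr'1 hl (by decide) hl0.symm hl1.symm ht'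
      (orderOf_eq_prime (hMr x hx) hx1) (orderOf_eq_prime (hexp w hw.1.1) hw1) (hMt x hx).symm
      (mem_centralizer_singleton_iff.1 hw.1.2).symm (mem_centralizer_singleton_iff.1 hw.2).symm
  have hcyc : IsCyclic M := by
    haveI := hMc
    exact hfree.isCyclic (inf_le_normalizer (hXV M) fun x hx => le_normalizer (hMA hx).2) hW0
  have hz := C₁.centralizes_cyclic h₁.noncomm hcyc hXM
  obtain ⟨y, hy⟩ := h₁.exists_five
  obtain ⟨g, hg, hgo⟩ := C₁.exists_orderOf Nat.prime_five hy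
  obtain ⟨x, hx, hx1⟩ := M.bot_or_exists_ne_one.resolve_left hM0
  exact hsub.no_three Nat.prime_five Nat.prime_two hr' h5 (two_dvd_cls m) hr'1 hi1.2 hi1.1 (by decide) hgo ht'
    (orderOf_eq_prime (hMr x hx) hx1) (mem_centralizer_singleton_iff.1 (hC₁N hg).2)
    (mem_centralizer_iff.1 (hz hg) x hx).symm (hMt x hx).symm

theorem swap_commute (hc : ∀ x ∈ T₁, ∀ y ∈ T₂, Commute x y) : ∀ x ∈ T₂, ∀ y ∈ T₁, Commute x y :=
  fun x hx y hy => (hc y hy x hx).symm

/-- A solvable kernel below two commuting sections is a group of the primes of `q - 1`, and then both sections are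
over other fields. -/
theorem two_sections (hsub : Sub G m) (f : G →* Q) (hf : Function.Surjective f) (hs : Group.IsSolvable f.ker)
    (hc : ∀ x ∈ T₁, ∀ y ∈ T₂, Commute x y) (h₁ : Model T₁ n₁) (h₂ : Model T₂ n₂) (hK : f.ker ≠ ⊥) :
    (∀ p : ℕ, p.Prime → p ∣ Nat.card f.ker → p ∣ cls m 1) ∧ n₁ ≠ m ∧ n₂ ≠ m := by
  induction hn : Nat.card G using Nat.strong_induction_on generalizing G with
  | _ N ih =>
    obtain ⟨V, v, hv, hVK, hV0, hVn, hVc, hVexp, -, hVmin⟩ :=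
      exists_minimal_invariant hs hK (le_normalizer_ker f ⊤)
    haveI : V.Normal := normalizer_eq_top_iff.1 (top_le_iff.1 hVn)
    haveI := hVc
    haveI := hs
    haveI := Fact.mk hv
    have hVs : Group.IsSolvable V := isSolvable_of_le hVK hs
    by_cases hVeq : V = f.ker
    · subst hVeq
      have h := abelian_kernel hsub f hf hc h₁ h₂ hv hVexp hK
      refine ⟨fun p hp hd => ?_, h.2, (abelian_kernel hsub f hf (swap_commute hc) h₂ h₁ hv hVexp hK).2⟩
      obtain ⟨k, hk⟩ := card_eq_pow hv hVexp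
      rw [(Nat.prime_dvd_prime_iff_eq hp hv).1 (hp.dvd_of_dvd_pow (hk ▸ hd))]
      exact h.1
    set π := QuotientGroup.mk' V
    set f' := QuotientGroup.lift V f hVK
    have hker : f'.ker = f.ker.map π := QuotientGroup.ker_lift V f hVK
    have hcardK : Nat.card f.ker = Nat.card V * Nat.card f'.ker := by
      rw [hker, ← card_mul_relIndex hVK]
      congr 1
      rw [← Subgroup.relIndex_bot_left, show (⊥ : Subgroup (G ⧸ V)) = V.map π from (QuotientGroup.map_mk'_self V).symm,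
        relIndex_map_map, QuotientGroup.ker_mk', sup_idem, sup_eq_left.2 hVK]
    obtain ⟨hπ, hn₁, hn₂⟩ := ih (Nat.card (G ⧸ V)) (hn ▸ card_quotient_lt hV0)
      (hsub.of_surjective π (QuotientGroup.mk'_surjective V)) f' (fun q => let ⟨x, hx⟩ := hf q; ⟨π x, hx⟩)
      (hker ▸ Group.isSolvable_of_surjective (π.subgroupMap_surjective f.ker)) (fun h => hVeq
        (eq_of_le_of_card_ge hVK (le_of_eq (by rw [hcardK, Subgroup.card_eq_one.2 h, mul_one])))) rfl
    refine ⟨fun p hp hd => ?_, hn₁, hn₂⟩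
    rw [hcardK] at hd
    rcases hp.dvd_mul.1 hd with hd' | hd'
    swap
    · exact hπ p hp hd'
    obtain ⟨k, hk⟩ := card_eq_pow hv hVexp
    obtain rfl := (Nat.prime_dvd_prime_iff_eq hp hv).1 (hp.dvd_of_dvd_pow (hk ▸ hd'))
    by_contra hv1
    set π₁ := {r : ℕ | r ∣ cls m 1}
    obtain ⟨A, hA⟩ := exists_hallIn π₁ hs
    have hAcop : (Nat.card A).Coprime (A.relIndex f.ker) := isPiNum_coprime hA.2.1 hA.2.2
    have hVA : V ⊔ A = f.ker := by
      refine eq_of_le_of_card_ge (sup_le hVK hA.1) (Nat.le_of_dvd Nat.card_pos ?_)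
      rw [hcardK]
      refine Nat.Coprime.mul_dvd_of_dvd_of_dvd ?_ (card_dvd_of_le le_sup_left) ?_
      · rw [hk]
        exact ((Nat.Prime.coprime_iff_not_dvd hp).2 fun h => hv1 (hπ p hp h)).pow_left k
      · refine (Nat.Coprime.dvd_of_dvd_mul_right (n := A.relIndex f.ker) (m := Nat.card A) ?_ ?_).trans (card_dvd_of_le (le_sup_right : A ≤ V ⊔ A))
        · exact isPiNum_coprime (π := π₁) hπ hA.2.2
        · rw [card_mul_relIndex hA.1, hcardK]
          exact dvd_mul_left _ _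
    have hfr := hall_frattini hs hA.1 hAcop
    set N := normalizer (A : Set G)
    have hcov : ∀ y : Q, ∃ x ∈ N, f x = y := fun y => by
      obtain ⟨x, rfl⟩ := hf y
      obtain ⟨a, ha, b, hb, rfl⟩ := mem_sup_of_normal_left.1 (hfr ▸ mem_top x : x ∈ f.ker ⊔ N)
      exact ⟨b, hb, by rw [map_mul, MonoidHom.mem_ker.1 ha, one_mul]⟩
    -- the points of the Hall group in the minimal normal subgroup
    have hVN : (V ⊓ N : Subgroup G).Normal := by
      rw [← normalizer_eq_top_iff, eq_top_iff, ← hfr, ← hVA]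
      refine sup_le (sup_le ?_ (le_trans (le_normalizer : A ≤ N) ?_)) ?_
      · intro x hx
        refine mem_normalizer_fintype fun a ha => ?_
        rw [show x * a * x⁻¹ = a from mul_inv_eq_iff_eq_mul.2
          (congrArg Subtype.val (isMulCommutative_iff.1 hVc ⟨x, hx⟩ ⟨a, ha.1⟩) :)]
        exact ha
      all_goals exact inf_le_normalizer (le_top.trans hVn) le_normalizer
    by_cases hVle : V ≤ N
    · haveI : A.Normal := normalizer_eq_top_iff.1 (eq_top_iff.2 (hfr ▸ sup_le (hVA ▸ sup_le hVle le_normalizer) le_rfl))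
      set f'' := QuotientGroup.lift A f hA.1
      have hker' : f''.ker = V.map (QuotientGroup.mk' A) := by
        rw [QuotientGroup.ker_lift, ← hVA, Subgroup.map_sup, QuotientGroup.map_mk'_self, sup_bot_eq]
      haveI : IsMulCommutative f''.ker := hker' ▸ inferInstance
      refine hv1 (abelian_kernel (hsub.of_surjective _ (QuotientGroup.mk'_surjective A)) f''
        (fun q => let ⟨x, hx⟩ := hf q; ⟨QuotientGroup.mk x, hx⟩) hc h₁ h₂ hp ?_ fun h => hV0 ?_).1
      · rw [hker']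
        rintro _ ⟨x, hx, rfl⟩
        rw [← map_pow, hVexp x hx, map_one]
      · rw [hker', (gc_map_comap _).l_eq_bot, MonoidHom.comap_bot, QuotientGroup.ker_mk'] at h
        refine (eq_bot_iff_forall _).2 fun x hx => by_contra fun hx1 => hv1 (hA.2.1 p hp ?_)
        exact orderOf_eq_prime (hVexp x hx) hx1 ▸ Subgroup.orderOf_dvd_natCard A (h hx)
    refine hall_false hsub f hc h₁ h₂ hp hVexp hV0 hv1 (A := A) (N := N) ?_ hcov hA.2.1
      (isSolvable_of_le hA.1 hs) fun h => hVle ?_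
    · refine le_antisymm (fun x hx => ?_) (le_inf le_normalizer hA.1)
      obtain ⟨hxN, hxK⟩ := Subgroup.mem_inf.1 hx
      obtain ⟨a, ha, b, hb, rfl⟩ := mem_sup_of_normal_left.1 (hVA.symm ▸ hxK : x ∈ V ⊔ A)
      have haN : a ∈ N := by simpa using mul_mem hxN (inv_mem (le_normalizer (H := A) hb))
      have hW : V ⊓ N = ⊥ := by_contra fun hne => hVle
        (inf_eq_left.1 (hVmin _ inf_le_left hne (normalizer_eq_top_iff.2 hVN).ge))
      rw [mem_bot.1 (hW ▸ Subgroup.mem_inf.2 ⟨ha, haN⟩ : a ∈ (⊥ : Subgroup G)),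
        one_mul]
      exact hb
    · subst h
      exact le_top.trans (normalizer_eq_top_iff.2 inferInstance).ge

end CfsgLib.Lie.SuzSquare
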