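import Cfsg.Agent.Lib.Lie.SuzSquare.Model
import Cfsg.Agent.Lib.Lie.Suz.Aut
import Cfsg.Agent.Lib.Goldschmidt.Consumers.PrimeToThree
import Cfsg.Agent.Lib.Perm.Groups.PowerSimple
import Cfsg.Agent.Lib.Lie.SuzSquare.TwoFactors
import Cfsg.Agent.S1169

/-!
# The factors of a group with the spectrum bound of a square of a Suzuki group

A nonabelian simple section has order prime to three, so it is a Suzuki group over a subfield size; modulo the
solvable radical there are one or two factors.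
-/

set_option autoImplicit false
set_option linter.style.haveILetI false
set_option linter.unusedSectionVars false

namespace CfsgLib.Lie.SuzSquare

open Subgroup

universe u

/-- A copy of `Sz (2 ^ (2 n + 1))`. -/
def IsSz (T : Type u) [Group T] (n : ℕ) : Prop :=
  ∃ (F : Type) (_ : Field F) (_ : Fintype F), 1 ≤ n ∧ Fintype.card F = 2 ^ (2 * n + 1) ∧
    Nonempty (T ≃* ↥(Cfsg.Lie.Sz F (2 ^ (n + 1))))

theorem IsSz.of_equiv {T : Type u} [Group T] {n : ℕ} (h : IsSz T n) {T' : Type u} [Group T'] (e : T' ≃* T) :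
    IsSz T' n := by
  obtain ⟨F, iF, iF', hn, hF, ⟨e'⟩⟩ := h
  exact ⟨F, iF, iF', hn, hF, ⟨e.trans e'⟩⟩

theorem IsSz.model {T : Type u} [Group T] {n : ℕ} (h : IsSz T n) : Model T n := by
  obtain ⟨F, iF, iF', hn, hF, ⟨e⟩⟩ := h
  exact (model_sz (F := F) hn hF).of_equiv e.symm

/-- The outer automorphisms have order dividing `2 n + 1`. -/
theorem IsSz.pow_inner {T : Type u} [Group T] [Finite T] {n : ℕ} (h : IsSz T n) (θ : MulAut T) :
    ∃ t : T, θ ^ (2 * n + 1) = MulAut.conj t := by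
  obtain ⟨F, iF, iF', hn, hF, ⟨e⟩⟩ := h
  set S := ↥(Cfsg.Lie.Sz F (2 ^ (n + 1)))
  haveI : Finite S := Finite.of_equiv T e.toEquiv
  let η : MulAut S := MulAut.congr e θ
  have h1 : η ^ (2 * n + 1) ∈ Cfsg.Inn S := by
    rw [← QuotientGroup.eq_one_iff, QuotientGroup.mk_pow, ← Lie.Suz.card_out (F := F) hn hF]
    exact pow_card_eq_one'
  obtain ⟨s, hs⟩ := h1
  refine ⟨e.symm s, (MulAut.congr e).injective ?_⟩
  rw [map_pow, ← hs]
  refine MulEquiv.ext fun z => ?_
  simp [MulAut.congr]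

variable {m : ℕ}

theorem three_not_dvd (m : ℕ) (l : Fin 4) : ¬ 3 ∣ cls m l := by
  have h : 2 ^ (2 * m + 1) % 3 = 2 := by rw [pow_succ, pow_mul, Nat.mul_mod, Nat.pow_mod]; norm_num
  have h0 : 1 ≤ 2 ^ (2 * m + 1) := Nat.one_le_two_pow
  intro hd
  by_cases hl : l = 0
  · rw [hl, cls_zero] at hd; norm_num at hd
  by_cases hl1 : l = 1
  · rw [hl1, cls_one] at hd; omega
  have h2 : 3 ∣ (2 ^ (2 * m + 1)) ^ 2 + 1 := by
    rw [← cls_prod]
    fin_cases l
    · exact absurd rfl hl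
    · exact absurd rfl hl1
    · exact dvd_mul_of_dvd_left hd _
    · exact dvd_mul_of_dvd_right hd _
  rw [sq, Nat.dvd_iff_mod_eq_zero, Nat.add_mod, Nat.mul_mod, h] at h2
  norm_num at h2

theorem exists_isSz {T : Type u} [Group T] [Finite T] [IsSimpleGroup T] (hsub : Sub T m)
    (hna : ¬ IsMulCommutative T) : ∃ n, IsSz T n := by
  obtain ⟨F, iF, iF', n, hn, hF, he⟩ := Gold.FourFreeList.isoSuzuki_of_prime_to_three
    (Cfsg.Agent.S1169.result (G := T)) hna fun h3 => by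
      obtain ⟨l, hl⟩ := hsub.exists_cls_card Nat.prime_three h3
      exact three_not_dvd m l hl
  exact ⟨n, F, iF, iF', hn, hF, he⟩

variable {Q : Type u} [Group Q] [Finite Q]

theorem exists_range_factor {S : Type*} [Group S] (hsub : Sub Q m) [IsSimpleGroup S] (hna : ¬ IsMulCommutative S)
    (φ : S →* Q) (hφ : Function.Injective φ) : ∃ n, IsSz φ.range n := by
  let e : S ≃* φ.range := MonoidHom.ofInjective hφ
  haveI : Finite S := Finite.of_injective φ hφ
  haveI : Nontrivial φ.range := e.symm.toEquiv.nontrivial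
  haveI : IsSimpleGroup φ.range := MulEquiv.isSimpleGroup e.symm
  refine exists_isSz (hsub.of_injective φ.range.subtype φ.range.subtype_injective) fun h => hna ?_
  exact isMulCommutative_iff.2 fun a b => e.injective (by rw [map_mul, map_mul]; exact isMulCommutative_iff.1 h _ _)

/-- Three commuting factors give three classes. -/
theorem three_false (hsub : Sub Q m) (hm : 1 ≤ m) {T₁ T₂ T₃ : Subgroup Q} {n₁ n₂ n₃ : ℕ} (h₁ : IsSz T₁ n₁)
    (h₂ : IsSz T₂ n₂) (h₃ : IsSz T₃ n₃) (c₁₂ : ∀ x ∈ T₁, ∀ y ∈ T₂, Commute x y)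
    (c₁₃ : ∀ x ∈ T₁, ∀ y ∈ T₃, Commute x y) (c₂₃ : ∀ x ∈ T₂, ∀ y ∈ T₃, Commute x y) : False := by
  have key : ∀ {T : Subgroup Q} {n : ℕ}, IsSz T n → ∀ {l : Fin 4} {p : ℕ}, p.Prime → p ∣ cls n l →
      ∃ x ∈ T, orderOf x = p := by
    intro T n h l p hp hd
    obtain ⟨y, hy⟩ := h.model.exists_order l
    exact PGroup.FourPrimes.exists_orderOf_eq hp ((hy.symm ▸ hd).trans (orderOf_dvd_natCard y))
  obtain ⟨j, -, hj⟩ := five_cls n₁
  obtain ⟨p, hp, hpd⟩ := Nat.exists_prime_and_dvd (show cls n₂ 1 ≠ 1 by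
    rw [cls_one]
    have := Nat.pow_le_pow_right (show 0 < 2 by norm_num)
      (show 3 ≤ 2 * n₂ + 1 by have := h₂.model.one_le; omega)
    omega)
  obtain ⟨x, hx, hxo⟩ := key h₁ Nat.prime_five hj
  obtain ⟨y, hy, hyo⟩ := key h₂ hp hpd
  obtain ⟨z, hz, hzo⟩ := key h₃ Nat.prime_two (two_dvd_cls n₃)
  obtain ⟨la, hla⟩ := hsub.exists_cls hp hyo.symm.dvd
  obtain rfl := class_one hp hpd hla
  obtain ⟨i, hi, h5⟩ := five_cls m
  exact hsub.no_three Nat.prime_five hp Nat.prime_two h5 hla (two_dvd_cls m)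
    (by rcases hi with rfl | rfl <;> decide) (by rcases hi with rfl | rfl <;> decide) (by decide) hxo hyo hzo
    (c₁₂ x hx y hy) (c₁₃ x hx z hz) (c₂₃ y hy z hz)

/-- One factor, or two commuting ones with join `M`. -/
def Shape (M : Subgroup Q) : Prop :=
  (∃ n, IsSz M n) ∨ ∃ (T₁ T₂ : Subgroup Q) (n₁ n₂ : ℕ), (∀ x ∈ T₁, ∀ y ∈ T₂, Commute x y) ∧ T₁ ⊔ T₂ = M ∧
    IsSz T₁ n₁ ∧ IsSz T₂ n₂

/-- A minimal normal subgroup has one or two factors, without solvable normal subgroups. -/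
theorem exists_minimal_shape (hsub : Sub Q m) (hm : 1 ≤ m)
    (hrad : ∀ N : Subgroup Q, N.Normal → Group.IsSolvable N → N = ⊥) {K : Subgroup Q} [hKn : K.Normal]
    (hK : K ≠ ⊥) : ∃ M : Subgroup Q, M.Normal ∧ M ≤ K ∧ M ≠ ⊥ ∧ Shape M := by
  obtain ⟨M, hMK, ⟨hMn, hM0⟩, hmin⟩ := exists_minimal_le_of_wellFoundedLT (α := Subgroup Q)
    (fun M => M.Normal ∧ M ≠ ⊥) K ⟨hKn, hK⟩
  haveI := hMn
  haveI : Nontrivial M := (nontrivial_iff_ne_bot M).2 hM0
  obtain ⟨S, iS, iS', k, hk, ⟨e⟩⟩ := Perm.Groups.exists_power_of_charSimple (G := M) fun H hH => by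
    haveI := hH
    haveI : (H.map M.subtype).Normal := ConjAct.normal_of_characteristic_of_normal
    by_cases h0 : H.map M.subtype = ⊥
    · exact Or.inl ((map_eq_bot_iff_of_injective H M.subtype_injective).1 h0)
    · refine Or.inr (map_injective M.subtype_injective ?_)
      rw [← MonoidHom.range_eq_map, range_subtype]
      exact le_antisymm (map_subtype_le H) (hmin ⟨inferInstance, h0⟩ (map_subtype_le H))
  have hna : ¬ IsMulCommutative S := fun h => hM0 (hrad M hMn (Coprime.isSolvable_of_isMulCommutative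
    (isMulCommutative_iff.2 fun a b => e.injective (funext fun i => by
      simp only [map_mul, Pi.mul_apply]; exact isMulCommutative_iff.1 h _ _))))
  let ι : Fin k → S →* Q := fun i => M.subtype.comp (e.symm.toMonoidHom.comp (MonoidHom.mulSingle (fun _ => S) i))
  have hι : ∀ i, ∃ n, IsSz (ι i).range n := fun i => exists_range_factor hsub hna (ι i)
    (M.subtype_injective.comp (e.symm.injective.comp (Pi.mulSingle_injective (M := fun _ : Fin k => S) i)))
  have hcomm : ∀ i j, i ≠ j → ∀ x ∈ (ι i).range, ∀ y ∈ (ι j).range, Commute x y := by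
    rintro i j hij _ ⟨a, rfl⟩ _ ⟨b, rfl⟩
    exact ((Pi.mulSingle_commute hij a b).map e.symm.toMonoidHom).map M.subtype
  choose n hn using hι
  refine ⟨M, hMn, hMK, hM0, ?_⟩
  rcases (show k = 1 ∨ k = 2 ∨ 3 ≤ k by omega) with rfl | rfl | h3
  · have : (ι 0).range = M := by
      refine le_antisymm (by rintro _ ⟨a, rfl⟩; exact (e.symm _).2) fun x hx => ⟨e ⟨x, hx⟩ 0, ?_⟩
      show ((e.symm (Pi.mulSingle 0 (e ⟨x, hx⟩ 0)) : M) : Q) = x
      rw [show Pi.mulSingle (0 : Fin 1) (e ⟨x, hx⟩ 0) = e ⟨x, hx⟩ from funext fun i => by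
        rw [Subsingleton.elim i 0, Pi.mulSingle_eq_same], e.symm_apply_apply]
    exact Or.inl ⟨n 0, this ▸ hn 0⟩
  · refine Or.inr ⟨(ι 0).range, (ι 1).range, n 0, n 1, hcomm 0 1 (by decide), ?_, hn 0, hn 1⟩
    refine le_antisymm (sup_le ?_ ?_) fun x hx => ?_
    · rintro _ ⟨a, rfl⟩; exact (e.symm _).2
    · rintro _ ⟨a, rfl⟩; exact (e.symm _).2
    · have h : x = ι 0 (e ⟨x, hx⟩ 0) * ι 1 (e ⟨x, hx⟩ 1) := by
        show x = ((e.symm (Pi.mulSingle 0 (e ⟨x, hx⟩ 0)) : M) : Q) * ((e.symm (Pi.mulSingle 1 (e ⟨x, hx⟩ 1)) : M) : Q)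
        rw [← Subgroup.coe_mul, ← map_mul, show Pi.mulSingle (0 : Fin 2) (e ⟨x, hx⟩ 0) *
          Pi.mulSingle 1 (e ⟨x, hx⟩ 1) = e ⟨x, hx⟩ from funext fun i => by fin_cases i <;> simp, e.symm_apply_apply]
      rw [h]
      exact mul_mem_sup ⟨_, rfl⟩ ⟨_, rfl⟩
  · exfalso
    exact three_false hsub hm (hn ⟨0, by omega⟩) (hn ⟨1, by omega⟩) (hn ⟨2, by omega⟩)
      (hcomm _ _ (by simp [Fin.ext_iff])) (hcomm _ _ (by simp [Fin.ext_iff])) (hcomm _ _ (by simp [Fin.ext_iff]))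

theorem commute_centralizer {M K : Subgroup Q} (h : K ≤ centralizer (M : Set Q)) :
    ∀ x ∈ M, ∀ y ∈ K, Commute x y := fun x hx _ hy => mem_centralizer_iff.1 (h hy) x hx

/-- Modulo the solvable radical: one or two factors, with trivial centralizer. -/
theorem exists_socle (hsub : Sub Q m) (hm : 1 ≤ m) [Nontrivial Q]
    (hrad : ∀ N : Subgroup Q, N.Normal → Group.IsSolvable N → N = ⊥) :
    ∃ L : Subgroup Q, L.Normal ∧ centralizer (L : Set Q) = ⊥ ∧ Shape L := by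
  obtain ⟨M, hMn, -, hM0, hM⟩ := exists_minimal_shape hsub hm hrad (K := ⊤) top_ne_bot
  haveI := hMn
  by_cases hC : centralizer (M : Set Q) = ⊥
  · exact ⟨M, hMn, hC, hM⟩
  obtain ⟨M', hM'n, hle, hM'0, hM'⟩ := exists_minimal_shape hsub hm hrad hC
  haveI := hM'n
  have hc := commute_centralizer hle
  -- a factor inside a shape
  have hsome : ∀ {N : Subgroup Q}, Shape N → ∃ T n, T ≤ N ∧ IsSz T n := by
    rintro N (⟨n, h⟩ | ⟨T₁, T₂, n₁, n₂, -, e, h, -⟩)
    exacts [⟨N, n, le_rfl, h⟩, ⟨T₁, n₁, e ▸ le_sup_left, h⟩]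
  rcases hM with ⟨n, hMs⟩ | ⟨T₁, T₂, n₁, n₂, h12, e, hT₁, hT₂⟩
  swap
  · obtain ⟨T, k, hT, hTs⟩ := hsome hM'
    exact (three_false hsub hm hT₁ hT₂ hTs h12 (fun x hx y hy => hc x (e ▸ mem_sup_left hx) y (hT hy))
      fun x hx y hy => hc x (e ▸ mem_sup_right hx) y (hT hy)).elim
  rcases hM' with ⟨n', hMs'⟩ | ⟨T₁, T₂, n₁, n₂, h12, e, hT₁, hT₂⟩
  swap
  · exact (three_false hsub hm hMs hT₁ hT₂ (fun x hx y hy => hc x hx y (e ▸ mem_sup_left hy))
      (fun x hx y hy => hc x hx y (e ▸ mem_sup_right hy)) h12).elim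
  refine ⟨M ⊔ M', inferInstance, ?_, Or.inr ⟨M, M', n, n', hc, rfl, hMs, hMs'⟩⟩
  by_contra h0
  obtain ⟨N, -, hNle, -, hN⟩ := exists_minimal_shape hsub hm hrad h0
  obtain ⟨T, k, hT, hTs⟩ := hsome hN
  exact three_false hsub hm hMs hMs' hTs hc
    (fun x hx y hy => commute_centralizer hNle x (mem_sup_left hx) y (hT hy))
    fun x hx y hy => commute_centralizer hNle x (mem_sup_right hx) y (hT hy)

/-- The radical. -/
theorem exists_radical (G : Type u) [Group G] [Finite G] (hns : ¬ Group.IsSolvable G) :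
    ∃ (R : Subgroup G) (_ : R.Normal), Group.IsSolvable R ∧ Nontrivial (G ⧸ R) ∧
      ∀ N : Subgroup (G ⧸ R), N.Normal → Group.IsSolvable N → N = ⊥ := by
  obtain ⟨R, ⟨hRn, hRs⟩, hmax⟩ := (wellFounded_gt (α := Subgroup G)).has_min
    {R | R.Normal ∧ Group.IsSolvable R} ⟨⊥, inferInstance, Coprime.isSolvable_of_isMulCommutative inferInstance⟩
  refine ⟨R, hRn, hRs, ?_, fun N hN hNs => ?_⟩
  · by_contra h
    rw [not_nontrivial_iff_subsingleton] at h
    have htop : R = ⊤ := eq_top_iff.2 fun x _ => (QuotientGroup.eq_one_iff x).1 (Subsingleton.elim _ _)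
    subst htop
    exact hns (Coprime.isSolvable_congr topEquiv hRs)
  set K := N.comap (QuotientGroup.mk' R)
  have hKs : Group.IsSolvable K := by
    let φ : K →* N := (QuotientGroup.mk' R).subgroupComap N
    let g : R →* K := Subgroup.inclusion fun x hx => by
      show QuotientGroup.mk' R x ∈ N
      rw [QuotientGroup.mk'_apply, (QuotientGroup.eq_one_iff x).2 hx]
      exact one_mem N
    haveI := hNs
    haveI := hRs
    exact Group.isSolvable_of_ker_le_range g φ fun x hx => ⟨⟨x, (QuotientGroup.eq_one_iff _).1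
      (congrArg Subtype.val hx)⟩, Subtype.ext rfl⟩
  have hle : R ≤ K := fun x hx => by
    show QuotientGroup.mk' R x ∈ N
    rw [QuotientGroup.mk'_apply, (QuotientGroup.eq_one_iff x).2 hx]
    exact one_mem N
  have hKR : K = R := ((hle.eq_or_lt).resolve_right (hmax K ⟨hN.comap _, hKs⟩)).symm
  rw [← map_comap_eq_self_of_surjective (QuotientGroup.mk'_surjective R) N]
  show K.map _ = ⊥
  rw [hKR, QuotientGroup.map_mk'_self]

end CfsgLib.Lie.SuzSquare
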