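import Cfsg.Agent.Lib.Lie.SuzSquare.Cover
import Cfsg.Agent.Lib.Coprime.FrattiniExtra

/-!
# Lifts of the torus and of the Borel subgroup of a Suzuki section

`HasTorus` and `HasBorel` are what is used of `Sz(q)`. In a cover, abelian `2`-groups are centralized (exponent
four), the `2`-part of the kernel is central, the involution images lift to involutions.
-/

set_option autoImplicit false
set_option linter.style.haveILetI false
set_option linter.unusedSectionVars false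

namespace CfsgLib.Lie.SuzSquare

open Subgroup CfsgLib.Coprime

universe u v

variable {G : Type u} [Group G] [Finite G] {T : Type v} [Group T] [Finite T]

/-- An element of order four acting semiregularly on a cyclic group of prime power order of a torus. -/
def HasTorus (T : Type v) [Group T] (n : ℕ) : Prop :=
  ∃ (y τ : T) (p k i : ℕ), p.Prime ∧ 1 ≤ k ∧ p ^ k ∣ cls n 2 * cls n 3 ∧
    ¬ p ^ (k + 1) ∣ cls n 2 * cls n 3 ∧ orderOf τ = p ^ k ∧ orderOf y = 4 ∧ y * τ * y⁻¹ = τ ^ i ∧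
    ∀ j : ℕ, y ^ j ≠ 1 → ∀ a ∈ zpowers τ, Commute (y ^ j) a → a = 1

/-- A `2`-group with central squares, not of exponent two, with an element of each full prime power order of
`q - 1` acting semiregularly. -/
def HasBorel (T : Type v) [Group T] (n : ℕ) : Prop :=
  ∀ p k : ℕ, p.Prime → 1 ≤ k → p ^ k ∣ cls n 1 → ¬ p ^ (k + 1) ∣ cls n 1 →
    ∃ (U : Subgroup T) (x : T), IsPGroup 2 U ∧ orderOf x = p ^ k ∧ x ∈ normalizer (U : Set T) ∧
      (∀ u ∈ U, ∀ w ∈ U, Commute u (w * w)) ∧ (∃ u ∈ U, u * u ≠ 1) ∧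
      ∀ j : ℕ, x ^ j ≠ 1 → ∀ u ∈ U, Commute (x ^ j) u → u = 1

/-- The facts on `Sz(2 ^ (2 n + 1))`. -/
structure Model (T : Type v) [Group T] (n : ℕ) : Prop where
  simple : IsSimpleGroup T
  noncomm : ¬ IsMulCommutative T
  one_le : 1 ≤ n
  torus : HasTorus T n
  borel : HasBorel T n
  orders : ∀ x : T, ∃ l, orderOf x ∣ cls n l
  exists_order : ∀ l, ∃ x : T, orderOf x = cls n l

theorem eq_of_dvd_two {j : ℕ} {m : ℕ} (hsub : Sub G m) {g : G} (hg : orderOf g = 2 ^ j) : j ≤ 2 := by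
  by_contra hc
  refine hsub.no_eight (g := g) ?_
  rw [hg, show (8 : ℕ) = 2 ^ 3 by norm_num]
  exact pow_dvd_pow 2 (by omega)

theorem odd_torus_prime {n p k : ℕ} (hp : p.Prime) (hk : 1 ≤ k) (h : p ^ k ∣ cls n 2 * cls n 3) : p ≠ 2 := by
  rintro rfl
  refine Nat.not_even_iff_odd.2 ((cls_odd n (i := 2) (by decide)).mul (cls_odd n (i := 3) (by decide))) ?_
  exact even_iff_two_dvd.2 ((dvd_pow_self 2 (by omega)).trans h)

/-- Lifts of a semiregular pair. -/
theorem Cover.exists_pair_lift (C : Cover G T) {m : ℕ} (hsub : Sub G m) {y τ : T} {p k i : ℕ} (hp : p.Prime)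
    (hk : 1 ≤ k) (hp2 : p ≠ 2) (hτ : orderOf τ = p ^ k) (hy : orderOf y = 4) (hconj : y * τ * y⁻¹ = τ ^ i)
    (hfpf : ∀ j : ℕ, y ^ j ≠ 1 → ∀ a ∈ zpowers τ, Commute (y ^ j) a → a = 1) (hex : C.Exact p τ) :
    ∃ h g : C.X, C.f h = y ∧ orderOf h = 4 ∧ C.f g = τ ∧ orderOf g = p ^ k ∧
      h ∈ normalizer (zpowers g : Set C.X) ∧
      ∀ j : ℕ, h ^ j ≠ 1 → ∀ a ∈ zpowers g, Commute (h ^ j) a → a = 1 := by
  classical
  haveI := Fact.mk hp
  haveI := Fact.mk Nat.prime_two
  have hyN : y ∈ normalizer (zpowers τ : Set T) := mem_normalizer_fintype fun a ha => by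
    obtain ⟨z, rfl⟩ := ha
    rw [← conj_zpow, hconj]
    exact zpow_mem (pow_mem (mem_zpowers τ) i) z
  obtain ⟨P, h, hP, hPmap, -, hhN, hhf, e, he⟩ := C.exists_normalizing (q := p) Nat.prime_two
    (IsPGroup.of_card (G := zpowers τ) (n := k) (by rw [Nat.card_zpowers, hτ])) hyN (k := 2)
    (hy.trans (by norm_num))
  have hh4 : orderOf h = 4 := by
    refine Nat.dvd_antisymm ?_ (hy ▸ hhf ▸ orderOf_map_dvd C.f h)
    rw [he, show (4 : ℕ) = 2 ^ 2 by norm_num]
    exact pow_dvd_pow 2 (eq_of_dvd_two hsub ((Subgroup.orderOf_coe h).trans he))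
  set S := {g : C.X // g ∈ P ∧ C.f g = τ}
  have hSord : ∀ g : S, orderOf g.1 = p ^ k := fun g => by
    obtain ⟨a, ha⟩ := IsPGroup.iff_orderOf.1 hP ⟨g.1, g.2.1⟩
    rw [hex g.1 g.2.2 ⟨a, by rw [Subgroup.orderOf_mk] at ha; exact ha⟩, hτ]
  -- the inverse exponent
  have hcop : i.Coprime (p ^ k) := by
    rcases Nat.eq_zero_or_pos k with rfl | hk0
    · simp
    refine Nat.Coprime.pow_right k (Nat.Coprime.symm ((Nat.Prime.coprime_iff_not_dvd hp).2 fun hd => ?_))
    obtain ⟨c, rfl⟩ := hd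
    have h1 : (τ ^ (p * c)) ^ p ^ (k - 1) = 1 := by
      rw [← pow_mul, show p * c * p ^ (k - 1) = p ^ (k - 1 + 1) * c by ring, Nat.sub_add_cancel hk0,
        pow_mul, ← hτ, pow_orderOf_eq_one, one_pow]
    rw [← hconj, conj_pow] at h1
    have h2 : τ ^ p ^ (k - 1) = 1 := by
      have := mul_inv_eq_one.1 h1
      exact mul_left_cancel (this.trans (mul_one y).symm)
    have := Nat.le_of_dvd (pow_pos hp.pos _) (hτ ▸ orderOf_dvd_of_pow_eq_one h2)
    exact absurd this (not_le.2 (Nat.pow_lt_pow_right hp.one_lt (by omega)))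
  obtain ⟨i', hi'⟩ : ∃ i' : ℕ, i * i' ≡ 1 [MOD p ^ k] := by
    have h1 : 1 < p ^ k := Nat.one_lt_pow (by omega) hp.one_lt
    obtain ⟨c, -, hc⟩ := Nat.exists_mul_mod_eq_one_of_coprime hcop h1
    exact ⟨c, by rw [Nat.ModEq, hc, Nat.one_mod_eq_one.2 h1.ne']⟩
  have hpowτ : τ ^ (i * i') = τ := by
    conv_rhs => rw [← pow_one τ]
    rw [pow_eq_pow_iff_modEq, hτ]
    exact hi'
  let φ : S → S := fun g => ⟨(h * g.1 * h⁻¹) ^ i', pow_mem ((mem_normalizer_iff.1 hhN _).1 g.2.1) _, by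
    rw [map_pow, map_mul, map_mul, map_inv, hhf, g.2.2, hconj, ← pow_mul, hpowτ]⟩
  have hinj : Function.Injective φ := fun a b e => by
    have e' : (h * a.1 * h⁻¹) ^ i' = (h * b.1 * h⁻¹) ^ i' := congrArg Subtype.val e
    have h' : ∀ g : S, ((h * g.1 * h⁻¹) ^ i') ^ i = h * g.1 * h⁻¹ := fun g => by
      rw [← pow_mul, mul_comm i']
      conv_rhs => rw [← pow_one (h * g.1 * h⁻¹)]
      rw [pow_eq_pow_iff_modEq, show orderOf (h * g.1 * h⁻¹) = p ^ k by
        rw [← MulAut.conj_apply, MulEquiv.orderOf_eq]; exact hSord g]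
      exact hi'
    have := congrArg (· ^ i) e'
    simp only [h'] at this
    exact Subtype.ext (mul_left_cancel (mul_right_cancel this))
  haveI : Finite S := Subtype.finite
  letI := Fintype.ofFinite S
  let σ : Equiv.Perm S := Equiv.ofBijective φ (Finite.injective_iff_bijective.1 hinj)
  have hiter : ∀ (n : ℕ) (g : S), ((σ ^ n) g).1 = (h ^ n * g.1 * (h ^ n)⁻¹) ^ (i' ^ n) := by
    intro n
    induction n with
    | zero => intro g; simp
    | succ n ih =>
      intro g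
      rw [pow_succ', Equiv.Perm.mul_apply]
      show (h * ((σ ^ n) g).1 * h⁻¹) ^ i' = _
      rw [ih, ← conj_pow, ← pow_mul, ← pow_succ, pow_succ' h n]
      congr 1
      group
  have hi4 : i' ^ 4 ≡ 1 [MOD p ^ k] := by
    have h1 : τ ^ (i ^ 4) = τ := by
      have key : ∀ n, y ^ n * τ * (y ^ n)⁻¹ = τ ^ (i ^ n) := by
        intro n
        induction n with
        | zero => simp
        | succ n ih =>
          rw [pow_succ' y, show y * y ^ n * τ * (y * y ^ n)⁻¹ = y * (y ^ n * τ * (y ^ n)⁻¹) * y⁻¹ by group, ih,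
            ← conj_pow, hconj, ← pow_mul, ← pow_succ']
      have := key 4
      rw [← hy, pow_orderOf_eq_one, one_mul, inv_one, mul_one, hy] at this
      exact this.symm
    have h2 : i ^ 4 ≡ 1 [MOD p ^ k] := by
      rw [← hτ, ← pow_eq_pow_iff_modEq, pow_one]; exact h1
    calc i' ^ 4 ≡ i ^ 4 * i' ^ 4 [MOD p ^ k] := by
          simpa using (h2.symm.mul_right (i' ^ 4))
      _ = (i * i') ^ 4 := (mul_pow _ _ _).symm
      _ ≡ 1 [MOD p ^ k] := by simpa using hi'.pow 4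
  have hσ : σ ^ 2 ^ 2 = 1 := Equiv.ext fun g => Subtype.ext (by
    rw [show (2 : ℕ) ^ 2 = 4 by norm_num, hiter 4 g, Equiv.Perm.one_apply, ← hh4, pow_orderOf_eq_one, one_mul,
      inv_one, mul_one, hh4]
    conv_rhs => rw [← pow_one g.1]
    rw [pow_eq_pow_iff_modEq, hSord]
    exact hi4)
  obtain ⟨g₀, hg₀⟩ : ∃ g : C.X, g ∈ P ∧ C.f g = τ := by
    obtain ⟨g, hg, e⟩ : τ ∈ P.map C.f := hPmap.symm ▸ mem_zpowers τ
    exact ⟨g, hg, e⟩
  have hcard : ¬ 2 ∣ Fintype.card S := by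
    let e : S ≃ (P ⊓ C.f.ker : Subgroup C.X) :=
      { toFun := fun g => ⟨g₀⁻¹ * g.1, mem_inf.2 ⟨mul_mem (inv_mem hg₀.1) g.2.1, by
          rw [MonoidHom.mem_ker, map_mul, map_inv, hg₀.2, g.2.2, inv_mul_cancel]⟩⟩
        invFun := fun z => ⟨g₀ * z.1, mul_mem hg₀.1 z.2.1, by
          rw [map_mul, hg₀.2, MonoidHom.mem_ker.1 z.2.2, mul_one]⟩
        left_inv := fun g => Subtype.ext (mul_inv_cancel_left _ _)
        right_inv := fun z => Subtype.ext (inv_mul_cancel_left _ _) }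
    obtain ⟨a, ha⟩ := (hP.to_le (inf_le_left : P ⊓ C.f.ker ≤ P)).exists_card_eq
    rw [← Nat.card_eq_fintype_card, Nat.card_congr e, ha]
    exact fun hd => hp2 ((Nat.prime_dvd_prime_iff_eq Nat.prime_two hp).1 (Nat.prime_two.dvd_of_dvd_pow hd)).symm
  obtain ⟨g, hg⟩ := Equiv.Perm.exists_fixed_point_of_prime (p := 2) hcard hσ
  have hgeq : (h * g.1 * h⁻¹) ^ i' = g.1 := congrArg Subtype.val hg
  have hgord := hSord g
  have hzle : ∀ a ∈ zpowers g.1, h * a * h⁻¹ ∈ zpowers g.1 := by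
    rintro _ ⟨z, rfl⟩
    rw [← conj_zpow]
    refine zpow_mem ?_ z
    have h3 : h * g.1 * h⁻¹ = g.1 ^ i := by
      conv_rhs => rw [← hgeq, ← pow_mul, mul_comm i']
      conv_lhs => rw [← pow_one (h * g.1 * h⁻¹)]
      rw [pow_eq_pow_iff_modEq, show orderOf (h * g.1 * h⁻¹) = p ^ k by
        rw [← MulAut.conj_apply, MulEquiv.orderOf_eq]; exact hgord]
      exact hi'.symm
    exact h3 ▸ pow_mem (mem_zpowers _) _
  refine ⟨h, g.1, hhf, hh4, g.2.2, hgord, mem_normalizer_fintype hzle, fun j hj a ha hc => ?_⟩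
  obtain ⟨z, rfl⟩ := ha
  have hyj : y ^ j ≠ 1 := fun e => hj (by
    rw [← orderOf_dvd_iff_pow_eq_one, hh4, ← hy]; exact orderOf_dvd_of_pow_eq_one e)
  have h4 := hfpf j hyj (τ ^ z) (zpow_mem (mem_zpowers τ) z) (by
    have := hc.map C.f
    rwa [map_pow, map_zpow, hhf, g.2.2] at this)
  show g.1 ^ z = 1
  rw [← orderOf_dvd_iff_zpow_eq_one, hgord, ← hτ]
  exact orderOf_dvd_iff_zpow_eq_one.2 h4

variable [IsSimpleGroup T]

/-- A cover centralizes the abelian `2`-groups it normalises. -/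
theorem Cover.two_trivial (C : Cover G T) {m n : ℕ} (hsub : Sub G m) (hT : HasTorus T n)
    (hex : ∀ p k : ℕ, p.Prime → 1 ≤ k → p ^ k ∣ cls n 2 * cls n 3 → ¬ p ^ (k + 1) ∣ cls n 2 * cls n 3 →
      ∀ τ : T, orderOf τ = p ^ k → C.Exact p τ)
    {V : Subgroup G} [IsMulCommutative V] (hV : IsPGroup 2 V) (hXV : C.X ≤ normalizer (V : Set G)) :
    C.X ≤ centralizer (V : Set G) := by
  obtain ⟨y, τ, p, k, i, hp, hk, hd, hnd, hτ, hy, hconj, hfpf⟩ := hT
  have hp2 := odd_torus_prime hp hk hd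
  obtain ⟨h, g, -, hh4, hgf, hgo, hN, hff⟩ :=
    C.exists_pair_lift hsub hp hk hp2 hτ hy hconj hfpf (hex p k hp hk hd hnd τ hτ)
  haveI := Fact.mk Nat.prime_two
  have hle : zpowers (g : G) ≤ centralizer (V : Set G) := by
    refine le_centralizer_of_max (p := 2) (k := 2) (b := (h : G)) hV ?_ ((Subgroup.orderOf_coe h).trans hh4)
      (fun x j hx => eq_of_dvd_two hsub hx) (zpowers_le.2 (hXV g.2)) (hXV h.2) ?_ ?_
    · rw [Nat.card_zpowers, Subgroup.orderOf_coe, hgo]
      exact fun hd' => hp2 ((Nat.prime_dvd_prime_iff_eq Nat.prime_two hp).1 (Nat.prime_two.dvd_of_dvd_pow hd')).symm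
    · refine mem_normalizer_fintype fun a ha => ?_
      obtain ⟨z, rfl⟩ := ha
      obtain ⟨z', hz'⟩ := (mem_normalizer_iff.1 hN (g ^ z)).1 (zpow_mem (mem_zpowers g) z)
      exact ⟨z', by simpa using congrArg Subtype.val hz'⟩
    · intro j hj a ha hc
      obtain ⟨z, rfl⟩ := ha
      have := hff j (fun e => hj (by simpa using congrArg Subtype.val e)) (g ^ z) (zpow_mem (mem_zpowers g) z)
        (Subtype.ext (by simpa using hc.eq))
      simpa using congrArg Subtype.val this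
  refine C.centralizes hXV (x := g) ?_ (hle (mem_zpowers _))
  rw [hgf]
  exact fun e => by rw [e, orderOf_one] at hτ; exact hp.ne_one (Nat.eq_one_of_dvd_one (hτ.symm ▸ dvd_pow_self p (by omega)))

theorem Cover.exists_involution (C : Cover G T) {m n : ℕ} (hsub : Sub G m) (hT : HasTorus T n) :
    ∃ t : C.X, orderOf t = 2 ∧ C.f t ≠ 1 := by
  obtain ⟨y, -, -, -, -, -, -, -, -, -, hy, -⟩ := hT
  haveI := Fact.mk Nat.prime_two
  obtain ⟨y', rfl⟩ := C.surj y
  obtain ⟨h, -, hhf, e, he⟩ := exists_plift C.f (⊤ : Subgroup C.X) Nat.prime_two (k := 2) (g := y') (mem_top _)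
    (hy.trans (by norm_num))
  have hh4 : orderOf h = 4 := Nat.dvd_antisymm (by
    rw [he, show (4 : ℕ) = 2 ^ 2 by norm_num]
    exact pow_dvd_pow 2 (eq_of_dvd_two hsub ((Subgroup.orderOf_coe h).trans he)))
    (hy ▸ hhf ▸ orderOf_map_dvd C.f h)
  refine ⟨h ^ 2, ?_, fun e2 => ?_⟩
  · rw [orderOf_pow, hh4]; norm_num
  · rw [map_pow, hhf] at e2
    have := orderOf_dvd_of_pow_eq_one e2
    rw [hy] at this
    norm_num at this

/-- An involution outside the kernel fixes a point of each nontrivial abelian group of odd order normalised by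
the cover. -/
theorem Cover.exists_fixed_involution (C : Cover G T) (hna : ¬ IsMulCommutative T) {t : C.X} (ht : orderOf t = 2)
    (hft : C.f t ≠ 1) {V : Subgroup G} [IsMulCommutative V] (hV0 : V ≠ ⊥) (hodd : Odd (Nat.card V))
    (hXV : C.X ≤ normalizer (V : Set G)) : ∃ v ∈ V, v ≠ 1 ∧ Commute (t : G) v := by
  by_contra hcon
  push Not at hcon
  have htt : (t : G) * t = 1 := Invol.invol_mul_self ((Subgroup.orderOf_coe t).trans ht)
  have hinv : ∀ v ∈ V, (t : G) * v * (t : G)⁻¹ = v⁻¹ := by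
    intro v hv
    have hw : v * ((t : G) * v * (t : G)⁻¹) ∈ V := mul_mem hv ((mem_normalizer_iff.1 (hXV t.2) v).1 hv)
    have hc : Commute (t : G) (v * ((t : G) * v * (t : G)⁻¹)) := by
      have hab := congrArg Subtype.val (isMulCommutative_iff.1 (inferInstance : IsMulCommutative V)
        ⟨v, hv⟩ ⟨_, (mem_normalizer_iff.1 (hXV t.2) v).1 hv⟩)
      show _ = _
      simp only [Subgroup.coe_mul] at hab
      conv_rhs => rw [hab]
      rw [inv_eq_of_mul_eq_one_right htt]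
      group
    exact (inv_eq_of_mul_eq_one_right (by_contra fun hne => hcon _ hw hne hc)).symm
  -- a commutator with `t` centralizes `V`
  obtain ⟨s, hs⟩ : ∃ s : C.X, C.f t * C.f s ≠ C.f s * C.f t := by
    by_contra h
    push Not at h
    have hcen : C.f t ∈ center T := mem_center_iff.2 fun z => by
      obtain ⟨s, rfl⟩ := C.surj z
      exact (h s).symm
    rcases (inferInstance : (center T).Normal).eq_bot_or_eq_top with e | e
    · exact hft (mem_bot.1 (e ▸ hcen))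
    · exact hna (isMulCommutative_iff.2 fun a b => mem_center_iff.1 (e ▸ mem_top b) a)
  have ht1 : C.f t * C.f t = 1 := by
    rw [← map_mul, Invol.invol_mul_self ht, map_one]
  have hcle : C.X ≤ centralizer (V : Set G) := by
    refine C.centralizes hXV (x := t * (s * t * s⁻¹)) ?_ (mem_centralizer_iff.2 fun v hv => ?_)
    · rw [map_mul, map_mul, map_mul, map_inv]
      intro e
      refine hs (mul_inv_eq_iff_eq_mul.1 ?_)
      calc C.f t * C.f s * (C.f t)⁻¹ = C.f t * (C.f s * C.f t * (C.f s)⁻¹) * C.f s := by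
            rw [inv_eq_of_mul_eq_one_right ht1]; group
        _ = C.f s := by rw [e, one_mul]
    · have hu : ((s : G) * t * (s : G)⁻¹) * v * ((s : G) * t * (s : G)⁻¹)⁻¹ = v⁻¹ := by
        calc ((s : G) * t * (s : G)⁻¹) * v * ((s : G) * t * (s : G)⁻¹)⁻¹ =
              (s : G) * ((t : G) * ((s : G)⁻¹ * v * s) * (t : G)⁻¹) * (s : G)⁻¹ := by group
          _ = v⁻¹ := by
              rw [hinv _ ((mem_normalizer_iff''.1 (hXV s.2) v).1 hv)]; group
      have hx : ((t : G) * ((s : G) * t * (s : G)⁻¹)) * v * ((t : G) * ((s : G) * t * (s : G)⁻¹))⁻¹ = v := by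
        calc _ = (t : G) * (((s : G) * t * (s : G)⁻¹) * v * ((s : G) * t * (s : G)⁻¹)⁻¹) * (t : G)⁻¹ := by group
          _ = v := by rw [hu, hinv _ (inv_mem hv), inv_inv]
      push_cast
      exact (mul_inv_eq_iff_eq_mul.1 hx).symm
  obtain ⟨v, hv, hv1⟩ := V.bot_or_exists_ne_one.resolve_left hV0
  exact hcon v hv hv1 (mem_centralizer_iff.1 (hcle t.2) v hv).symm

end CfsgLib.Lie.SuzSquare
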