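import Cfsg.Agent.Lib.Lie.SuzSquare.Arith
import Cfsg.Agent.Lib.Lie.Suz.Aut
import Cfsg.Agent.Lib.Lie.Suz.Sub.Fix

/-!
# The square of a Suzuki group has no outer extension with few element orders

An automorphism exchanging the factors gives an element of order eight. A field automorphism of prime order `s` on
one or both factors centralizes an involution in one factor and an element of order five or of order dividing
`q - 1` in the other, so three classes meet in one element.
-/

set_option autoImplicit false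
set_option linter.style.haveILetI false
set_option linter.unusedSectionVars false

namespace CfsgLib.Lie.SuzSquare

open Subgroup CfsgLib.Lie.Suz Cfsg
open scoped MatrixGroups

universe u v

/-- An endomorphism of a simple group is trivial or bijective. -/
theorem hom_cases {S : Type u} [Group S] [Finite S] [IsSimpleGroup S] (f : S →* S) :
    (∀ x, f x = 1) ∨ Function.Bijective f := by
  rcases (inferInstance : f.ker.Normal).eq_bot_or_eq_top with h | h
  · exact Or.inr (Finite.injective_iff_bijective.1 ((MonoidHom.ker_eq_bot_iff f).1 h))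
  · exact Or.inl fun x => (h ▸ mem_top x : x ∈ f.ker)

/-- The automorphisms of a square of a simple group. -/
theorem aut_square {S : Type u} [Group S] [Finite S] [IsSimpleGroup S] (hna : ¬ IsMulCommutative S)
    (θ : MulAut (S × S)) :
    (∃ α β : MulAut S, ∀ p : S × S, θ p = (α p.1, β p.2)) ∨
      (∃ α β : MulAut S, ∀ p : S × S, θ p = (α p.2, β p.1)) := by
  let f : S →* S := (MonoidHom.fst S S).comp (θ.toMonoidHom.comp (MonoidHom.inl S S))
  let f' : S →* S := (MonoidHom.fst S S).comp (θ.toMonoidHom.comp (MonoidHom.inr S S))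
  let g : S →* S := (MonoidHom.snd S S).comp (θ.toMonoidHom.comp (MonoidHom.inl S S))
  let g' : S →* S := (MonoidHom.snd S S).comp (θ.toMonoidHom.comp (MonoidHom.inr S S))
  have hdec : ∀ p : S × S, θ p = (f p.1 * f' p.2, g p.1 * g' p.2) := fun p => by
    conv_lhs => rw [show p = (p.1, 1) * (1, p.2) by simp]
    rw [map_mul]
    rfl
  have hcen : ∀ a : S, (∀ b, a * b = b * a) → a = 1 := fun a ha => by
    rcases (inferInstance : (center S).Normal).eq_bot_or_eq_top with e | e
    · exact mem_bot.1 (e ▸ mem_center_iff.2 fun b => (ha b).symm)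
    · exact absurd ⟨⟨fun x y => mem_center_iff.1 (e ▸ mem_top y) x⟩⟩ hna
  have hcomm : ∀ x y, θ (x, 1) * θ (1, y) = θ (1, y) * θ (x, 1) := fun x y => by
    rw [← map_mul, ← map_mul]; simp
  have hf : ∀ x y, f x * f' y = f' y * f x := fun x y => congrArg Prod.fst (hcomm x y)
  have hg : ∀ x y, g x * g' y = g' y * g x := fun x y => congrArg Prod.snd (hcomm x y)
  have hinj1 : ∀ x, f x = 1 → g x = 1 → x = 1 := fun x h1 h2 => by
    have : θ (x, 1) = θ 1 := by rw [hdec, map_one]; simp [h1, h2]
    exact congrArg Prod.fst (θ.injective this)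
  have hinj2 : ∀ x, f' x = 1 → g' x = 1 → x = 1 := fun x h1 h2 => by
    have : θ (1, x) = θ 1 := by rw [hdec, map_one]; simp [h1, h2]
    exact congrArg Prod.snd (θ.injective this)
  obtain ⟨s, hs⟩ : ∃ s : S, s ≠ 1 := exists_ne 1
  have hsurj : ∀ a b : S, ∃ p : S × S, f p.1 * f' p.2 = a ∧ g p.1 * g' p.2 = b := fun a b => by
    obtain ⟨p, hp⟩ := θ.surjective (a, b)
    rw [hdec] at hp
    exact ⟨p, congrArg Prod.fst hp, congrArg Prod.snd hp⟩
  rcases hom_cases f with h1 | h1
  · right
    have h2 : Function.Bijective f' := (hom_cases f').resolve_left fun h => by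
      obtain ⟨p, hp, -⟩ := hsurj s 1
      rw [h1, h, mul_one] at hp
      exact hs hp.symm
    have h3 : Function.Bijective g := (hom_cases g).resolve_left fun h => hs (hinj1 s (h1 s) (h s))
    have h4 : ∀ y, g' y = 1 := fun y => hcen _ fun b => by
      obtain ⟨x, rfl⟩ := h3.2 b
      exact (hg x y).symm
    exact ⟨MulEquiv.ofBijective f' h2, MulEquiv.ofBijective g h3, fun p => by
      rw [hdec, h1, h4, one_mul, mul_one]; rfl⟩
  · left
    have h2 : ∀ y, f' y = 1 := fun y => hcen _ fun b => by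
      obtain ⟨x, rfl⟩ := h1.2 b
      exact (hf x y).symm
    have h3 : Function.Bijective g' := (hom_cases g').resolve_left fun h => hs (hinj2 s (h2 s) (h s))
    have h4 : ∀ x, g x = 1 := fun x => hcen _ fun b => by
      obtain ⟨y, rfl⟩ := h3.2 b
      exact hg x y
    exact ⟨MulEquiv.ofBijective f h1, MulEquiv.ofBijective g' h3, fun p => by
      rw [hdec, h2, h4, one_mul, mul_one]; rfl⟩

/-- A power of an element of prime order. -/
theorem exists_prime_order_pow {H : Type u} [Group H] [Finite H] {x : H} (hx : x ≠ 1) :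
    ∃ (r k : ℕ), r.Prime ∧ r ∣ orderOf x ∧ orderOf (x ^ k) = r := by
  obtain ⟨r, hr, k, hk⟩ := Nat.exists_prime_and_dvd (fun e : orderOf x = 1 => hx (orderOf_eq_one_iff.1 e))
  refine ⟨r, k, hr, ⟨k, hk⟩, ?_⟩
  have hk0 : 0 < k := Nat.pos_of_mul_pos_left (hk ▸ orderOf_pos x)
  rw [orderOf_pow, hk, Nat.gcd_eq_right (dvd_mul_left k r), Nat.mul_div_cancel _ hk0]

variable {F : Type v} [Field F] [Fintype F] {m : ℕ} (hm : 1 ≤ m) (hF : Fintype.card F = 2 ^ (2 * m + 1))
include hm hF

theorem sigAut_mul (σ τ : RingAut F) : sigAut hm hF (σ * τ) = sigAut hm hF σ * sigAut hm hF τ :=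
  MulEquiv.ext fun _ => Subtype.ext (Subtype.ext (Matrix.ext fun _ _ => rfl))

theorem sigAut_one : sigAut hm hF (1 : RingAut F) = 1 :=
  MulEquiv.ext fun _ => Subtype.ext (Subtype.ext (Matrix.ext fun _ _ => rfl))

theorem sigAut_TS_zero_one (σ : RingAut F) : sigAut hm hF σ (TS hF 0 1) = TS hF 0 1 := by
  rw [sigAut_TS, map_zero, map_one]

theorem orderOf_TS_zero_one : orderOf (TS hF 0 1 : Cfsg.Sz F m) = 2 := by
  haveI := Fact.mk Nat.prime_two
  have hS := isSuzField hF
  refine orderOf_eq_prime ?_ fun e => ?_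
  · rw [pow_two]
    refine Subtype.ext ?_
    show T m (0 : F) 1 * T m 0 1 = 1
    rw [T_sq hS, th_zero hS, mul_zero, T_zero]
  · have e' : (TS hF 0 1 : Cfsg.Sz F m) = TS hF 0 0 := e.trans (Subtype.ext T_zero).symm
    exact one_ne_zero (Prod.ext_iff.1 (TS_injective hF (a₁ := (_, _)) (a₂ := (_, _)) e')).2

/-- An element of order five over the prime field. -/
theorem orderOf_five : orderOf (WS hF * TS hF 0 1 : Cfsg.Sz F m) = 5 := by
  haveI : Fact (Nat.Prime 5) := ⟨Nat.prime_five⟩
  haveI : CharP F 2 := charP_of_card_eq_prime_pow (f := 2 * m + 1) hF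
  have hS := isSuzField hF
  refine orderOf_eq_prime ?_ fun e => ?_
  · refine Subtype.ext (Subtype.ext ?_)
    show ((W * T m (0 : F) 1) ^ 5 : SL(4, F)).1 = 1
    rw [Matrix.SpecialLinearGroup.coe_pow, Matrix.SpecialLinearGroup.coe_mul]
    show (Wm * Tm m (0 : F) 1) ^ 5 = 1
    let f : ZMod 2 →+* F := ZMod.castHom (dvd_refl 2) F
    have hW : (Wm : Matrix (Fin 4) (Fin 4) F) = f.mapMatrix Wm := by
      ext i j
      fin_cases i <;> fin_cases j <;> simp [Wm, f]
    have hT : Tm m (0 : F) 1 = f.mapMatrix !![1, 0, 1, 1; 0, 1, 0, 1; 0, 0, 1, 0; 0, 0, 0, 1] := by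
      ext i j
      fin_cases i <;> fin_cases j <;> simp [Tm, fO, th_zero hS, th_one hS, f]
    rw [hW, hT, ← map_mul, ← map_pow, show ((Wm : Matrix (Fin 4) (Fin 4) (ZMod 2)) *
      !![1, 0, 1, 1; 0, 1, 0, 1; 0, 0, 1, 0; 0, 0, 0, 1]) ^ 5 = 1 by decide +kernel, map_one]
  · have h1 := congrArg (fun x : Cfsg.Sz F m => (x : SL(4, F)) • suzukiPointInfinity F) e
    simp only [Subgroup.coe_mul, Subgroup.coe_one, one_smul] at h1
    change (W * T m (0 : F) 1) • suzukiPointInfinity F = suzukiPointInfinity F at h1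
    rw [mul_smul, T_inf, W_inf] at h1
    exact inf_ne_zero h1.symm

theorem sigAut_five (σ : RingAut F) : sigAut hm hF σ (WS hF * TS hF 0 1) = WS hF * TS hF 0 1 := by
  rw [map_mul, sigAut_TS_zero_one hm hF]
  exact congrArg (· * TS hF 0 1) (Subtype.ext (sigSL_W σ))

omit hm hF in
theorem finite_ringAut : Finite (RingAut F) :=
  Finite.of_injective (fun σ : RingAut F => (σ : F → F)) DFunLike.coe_injective

theorem pow_ringAut (σ : RingAut F) : σ ^ (2 * m + 1) = 1 := by
  haveI : Fact (Nat.Prime 2) := ⟨Nat.prime_two⟩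
  rw [← CfsgLib.AutPSL.card_ringAut (F := F) hF]
  exact pow_card_eq_one'

/-- An automorphism of prime order fixing only the prime field generates the automorphism group. -/
theorem order_eq_of_fixed {σ : RingAut F} (hfix : ∀ k : Fˣ, σ (k : F) = k → k = 1) :
    orderOf σ = 2 * m + 1 := by
  classical
  haveI := finite_ringAut (F := F)
  haveI : FaithfulSMul ↥(zpowers σ) F :=
    ⟨fun {a b} h => Subtype.ext (RingEquiv.ext fun x => h x)⟩
  haveI : Fintype ↥(zpowers σ) := Fintype.ofFinite _
  set K := FixedPoints.subfield ↥(zpowers σ) F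
  haveI : Fintype K := Fintype.ofFinite _
  have hfin : Module.finrank K F = orderOf σ := by
    rw [FixedPoints.finrank_eq_card, ← Nat.card_eq_fintype_card, Nat.card_zpowers]
  have hK : Fintype.card K = 2 := by
    refine le_antisymm ?_ Fintype.one_lt_card
    calc Fintype.card K = (Finset.univ.map ⟨fun x : K => (x : F), Subtype.val_injective⟩).card := by
          rw [Finset.card_map, Finset.card_univ]
      _ ≤ ({0, 1} : Finset F).card := Finset.card_le_card fun x hx => by
          obtain ⟨w, -, rfl⟩ := Finset.mem_map.1 hx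
          by_cases h : (w : F) = 0
          · simp [h]
          · have h1 : σ (w : F) = w := w.2 ⟨σ, mem_zpowers σ⟩
            have := congrArg Units.val (hfix (Units.mk0 _ h) h1)
            simp only [Units.val_mk0, Units.val_one] at this
            simp [this]
      _ ≤ 2 := Finset.card_le_two
  have h := Module.card_eq_pow_finrank (K := K) (V := F)
  rw [hK, hfin, hF] at h
  exact (Nat.pow_right_injective le_rfl h).symm

theorem eq_top_of_square_sl {G : Type u} [Group G] [Finite G] (hm2 : m ≠ 2) (hsub : Sub G m) (L : Subgroup G)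
    [L.Normal] (d : L ≃* Cfsg.Sz F m × Cfsg.Sz F m) (hC : centralizer (L : Set G) = ⊥) : L = ⊤ := by
  classical
  haveI := CfsgLib.Lie.Suz.simple hm hF
  have hna : ¬ IsMulCommutative (Cfsg.Sz F m) := fun hc => by
    have h1 := CfsgLib.Lie.Suz.perfect hm hF (m := m)
    rw [_root_.commutator_def, commutator_eq_bot_iff_le_centralizer.2 (fun a _ => mem_centralizer_iff.2 fun b _ =>
      hc.is_comm.comm b a)] at h1
    exact bot_ne_top h1
  set S := Cfsg.Sz F m
  let i : S × S →* G := L.subtype.comp d.symm.toMonoidHom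
  have hi : Function.Injective i := L.subtype_injective.comp d.symm.injective
  have hiL : ∀ p, i p ∈ L := fun p => (d.symm p).2
  have hLi : ∀ l ∈ L, ∃ p, i p = l := fun l hl => ⟨d ⟨l, hl⟩, by
    show ((d.symm (d ⟨l, hl⟩) : L) : G) = l
    rw [MulEquiv.symm_apply_apply]⟩
  let θ : G → MulAut (S × S) := fun g => (d.symm.trans (MulAut.conjNormal g)).trans d
  have hθ : ∀ g p, i (θ g p) = g * i p * g⁻¹ := fun g p => by
    show ((d.symm (d (MulAut.conjNormal g (d.symm p))) : L) : G) = _
    rw [MulEquiv.symm_apply_apply]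
    exact MulAut.conjNormal_apply g _
  have htriv : ∀ g, (∀ p, g * i p * g⁻¹ = i p) → g = 1 := fun g h => by
    rw [← mem_bot, ← hC]
    refine mem_centralizer_iff.2 fun l hl => ?_
    obtain ⟨p, rfl⟩ := hLi l hl
    exact (mul_inv_eq_iff_eq_mul.1 (h p)).symm
  -- elements keeping the factors
  have hkeep : ∀ g, (∃ α β : MulAut S, ∀ p : S × S, θ g p = (α p.1, β p.2)) → g ∈ L := by
    rintro g ⟨α, β, hg⟩
    obtain ⟨a, σ, rfl⟩ := aut_decomp hm hF α
    obtain ⟨b, τ, rfl⟩ := aut_decomp hm hF β
    set g' := (i (a, b))⁻¹ * g with hg'def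
    have hg' : ∀ p : S × S, g' * i p * g'⁻¹ = i (sigAut hm hF σ p.1, sigAut hm hF τ p.2) := fun p => by
      calc g' * i p * g'⁻¹ = (i (a, b))⁻¹ * (g * i p * g⁻¹) * i (a, b) := by rw [hg'def]; group
        _ = (i (a, b))⁻¹ * i (θ g p) * i (a, b) := by rw [hθ]
        _ = i ((a, b)⁻¹ * θ g p * (a, b)) := by rw [map_mul, map_mul, map_inv]
        _ = _ := by
          rw [hg]
          refine congrArg i (Prod.ext ?_ ?_)
          · show a⁻¹ * (a * sigAut hm hF σ p.1 * a⁻¹) * a = sigAut hm hF σ p.1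
            group
          · show b⁻¹ * (b * sigAut hm hF τ p.2 * b⁻¹) * b = sigAut hm hF τ p.2
            group
    rw [show g = i (a, b) * g' by rw [hg'def, mul_inv_cancel_left]]
    refine mul_mem (hiL _) ?_
    by_cases hst : (σ, τ) = 1
    · obtain ⟨rfl, rfl⟩ := Prod.mk_eq_one.1 hst
      rw [htriv g' fun p => by rw [hg', sigAut_one hm hF]; rfl]
      exact one_mem L
    exfalso
    have hpow : ∀ n : ℕ, ∀ p : S × S,
        g' ^ n * i p * (g' ^ n)⁻¹ = i (sigAut hm hF (σ ^ n) p.1, sigAut hm hF (τ ^ n) p.2) := by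
      intro n
      induction n with
      | zero => intro p; simp [sigAut_one hm hF]
      | succ n ih =>
        intro p
        calc g' ^ (n + 1) * i p * (g' ^ (n + 1))⁻¹ = g' * (g' ^ n * i p * (g' ^ n)⁻¹) * g'⁻¹ := by
              rw [pow_succ']; group
          _ = _ := by
              rw [ih, hg', pow_succ', pow_succ', sigAut_mul hm hF, sigAut_mul hm hF]; rfl
    haveI := finite_ringAut (F := F)
    obtain ⟨s, c, hs, hsd, hc⟩ := exists_prime_order_pow hst
    set σ' := σ ^ c with hσ'
    set τ' := τ ^ c with hτ'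
    set g₀ := g' ^ c with hg₀def
    have hg₀ : ∀ p : S × S, g₀ * i p * g₀⁻¹ = i (sigAut hm hF σ' p.1, sigAut hm hF τ' p.2) := hpow c
    have hc1 : (σ', τ') ≠ 1 := fun e => hs.ne_one (by
      rw [← hc, show (σ, τ) ^ c = (σ', τ') from rfl, e, orderOf_one])
    have hσs : σ' ^ s = 1 ∧ τ' ^ s = 1 := by
      have h := pow_orderOf_eq_one ((σ, τ) ^ c)
      rw [hc] at h
      exact Prod.mk_eq_one.1 h
    have hord : orderOf g₀ = s := by
      haveI := Fact.mk hs
      refine orderOf_eq_prime (htriv _ fun p => ?_) fun e => hc1 ?_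
      · rw [hg₀def, ← pow_mul, hpow, pow_mul, pow_mul, hσs.1, hσs.2, sigAut_one hm hF]
        rfl
      · have h : ∀ p : S × S, (sigAut hm hF σ' p.1, sigAut hm hF τ' p.2) = p := fun p =>
          hi (by rw [← hg₀, e]; group)
        refine Prod.mk_eq_one.2 ⟨(aut_inj hm hF (x := 1) (y := 1) (σ := σ') (τ := 1) ?_).2,
          (aut_inj hm hF (x := 1) (y := 1) (σ := τ') (τ := 1) ?_).2⟩
        · refine MulEquiv.ext fun z => ?_
          rw [sigAut_one hm hF, map_one, one_mul, one_mul, MulAut.one_apply]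
          exact congrArg Prod.fst (h (z, 1))
        · refine MulEquiv.ext fun z => ?_
          rw [sigAut_one hm hF, map_one, one_mul, one_mul, MulAut.one_apply]
          exact congrArg Prod.snd (h (1, z))
    have hsm : s ∣ 2 * m + 1 := hsd.trans (orderOf_dvd_of_pow_eq_one (by
      rw [Prod.pow_mk, pow_ringAut hm hF, pow_ringAut hm hF]; rfl))
    have hs2 : s ≠ 2 := by rintro rfl; omega
    obtain ⟨l, hl⟩ := hsub.exists_cls (g := g₀) hs hord.symm.dvd
    have hl0 : l ≠ 0 := by
      rintro rfl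
      rw [cls_zero, show (4 : ℕ) = 2 ^ 2 by norm_num] at hl
      exact hs2 ((Nat.prime_dvd_prime_iff_eq hs Nat.prime_two).1 (hs.dvd_of_dvd_pow hl))
    obtain ⟨j, hj, h5⟩ := five_cls m
    have h2c : 2 ∣ cls m 0 := by rw [cls_zero]; norm_num
    have hfixg : ∀ x y, sigAut hm hF σ' x = x → sigAut hm hF τ' y = y → Commute g₀ (i (x, y)) := fun x y hx hy =>
      mul_inv_eq_iff_eq_mul.1 (by rw [hg₀, hx, hy])
    have hι := orderOf_TS_zero_one hm hF
    have hcomm12 : ∀ x y : S, Commute (i (x, 1)) (i (1, y)) := fun x y => by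
      show _ * _ = _ * _
      rw [← map_mul, ← map_mul]; simp
    have hord1 : ∀ x : S, orderOf (i (x, 1)) = orderOf x := fun x => by
      rw [orderOf_injective i hi]
      exact orderOf_injective (MonoidHom.inl S S) (fun a b e => congrArg Prod.fst e) x
    have hord2 : ∀ x : S, orderOf (i (1, x)) = orderOf x := fun x => by
      rw [orderOf_injective i hi]
      exact orderOf_injective (MonoidHom.inr S S) (fun a b e => congrArg Prod.snd e) x
    by_cases hlj : l = j
    · -- a fixed element of the torus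
      have key : ∀ k : Fˣ, k ≠ 1 → σ' (k : F) = k ∨ τ' (k : F) = k → False := by
        intro k hk hfix
        obtain ⟨r, e, hr, hrd, hre⟩ := exists_prime_order_pow hk
        have hr1 : r ∣ cls m 1 := hrd.trans ((_root_.orderOf_dvd_natCard k).trans (dvd_of_eq (by
          rw [Nat.card_eq_fintype_card, Fintype.card_units, hF, cls_one])))
        have hl1 : l ≠ 1 := by rcases hj with rfl | rfl <;> rw [hlj] <;> decide
        let φ : Fˣ →* S := MonoidHom.mk' (HS hF) fun a b => HS_mul hF a b
        have hHo : orderOf (φ (k ^ e)) = r := by rw [orderOf_injective φ (HS_injective hF), hre]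
        have hH : ∀ ρ : RingAut F, ρ (k : F) = k → sigAut hm hF ρ (φ (k ^ e)) = φ (k ^ e) := fun ρ hρ => by
          show sigAut hm hF ρ (HS hF (k ^ e)) = HS hF (k ^ e)
          rw [sigAut_HS, show Units.map ρ.toRingHom.toMonoidHom (k ^ e) = k ^ e from Units.ext (by
            show ρ ((k ^ e : Fˣ) : F) = _
            rw [Units.val_pow_eq_pow_val, map_pow, hρ])]
        rcases hfix with h | h
        · exact hsub.no_three hs Nat.prime_two hr hl h2c hr1 hl0 hl1 (by decide) hord
            ((hord2 _).trans hι) ((hord1 _).trans hHo) (hfixg _ _ (map_one _) (sigAut_TS_zero_one hm hF τ'))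
            (hfixg _ _ (hH σ' h) (map_one _)) (hcomm12 _ _).symm
        · exact hsub.no_three hs Nat.prime_two hr hl h2c hr1 hl0 hl1 (by decide) hord
            ((hord1 _).trans hι) ((hord2 _).trans hHo) (hfixg _ _ (sigAut_TS_zero_one hm hF σ') (map_one _))
            (hfixg _ _ (map_one _) (hH τ' h)) (hcomm12 _ _)
      have hfull : orderOf σ' = 2 * m + 1 := order_eq_of_fixed hm hF fun k hk =>
        by_contra fun hk1 => key k hk1 (Or.inl hk)
      have hs' : s = 2 * m + 1 := Nat.dvd_antisymm hsm (hfull ▸ orderOf_dvd_of_pow_eq_one hσs.1)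
      -- the prime is five
      have hd : s ∣ (2 ^ (2 * m + 1)) ^ 2 + 1 := by
        rw [← cls_prod]
        rcases hj with rfl | rfl
        · exact dvd_mul_of_dvd_left (hlj ▸ hl) _
        · exact dvd_mul_of_dvd_right (hlj ▸ hl) _
      rw [← hs'] at hd
      haveI := Fact.mk hs
      have h4 : ((((2 ^ s) ^ 2 + 1 : ℕ)) : ZMod s) = 0 := (ZMod.natCast_eq_zero_iff _ _).2 hd
      push_cast at h4
      rw [ZMod.pow_card] at h4
      have h6 : ((5 : ℕ) : ZMod s) = 0 := by
        rw [← h4]; push_cast; norm_num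
      rw [ZMod.natCast_eq_zero_iff, Nat.prime_dvd_prime_iff_eq hs Nat.prime_five] at h6
      omega
    · refine hsub.no_three hs Nat.prime_two Nat.prime_five hl h2c h5 hl0 hlj ?_ hord ((hord1 _).trans hι)
        ((hord2 _).trans (orderOf_five hm hF)) (hfixg _ _ (sigAut_TS_zero_one hm hF σ') (map_one _))
        (hfixg _ _ (map_one _) (sigAut_five hm hF τ')) (hcomm12 _ _)
      rcases hj with rfl | rfl <;> decide
  -- no element exchanges the factors
  refine eq_top_iff.2 fun g _ => ?_
  rcases aut_square hna (θ g) with h | ⟨α, β, hg⟩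
  · exact hkeep g h
  exfalso
  have hgg : g * g ∈ L := hkeep _ ⟨β.trans α, α.trans β, fun p => hi (by
    rw [hθ, show g * g * i p * (g * g)⁻¹ = g * (g * i p * g⁻¹) * g⁻¹ by group, ← hθ, ← hθ, hg, hg]
    rfl)⟩
  obtain ⟨⟨a, b⟩, hab⟩ := hLi _ hgg
  have hb : β a = b := by
    have h1 : i (θ g (a, b)) = i (a, b) := by rw [hθ, hab]; group
    have h2 := hi h1
    rw [hg] at h2
    exact congrArg Prod.snd h2
  set t : S := TS hF 1 0 with htdef
  have hS := isSuzField hF
  have ht2 : t ^ 2 = TS hF 0 1 := Subtype.ext (by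
    show T m (1 : F) 0 ^ 2 = T m 0 1
    rw [pow_two, T_sq hS, th_one hS, one_mul])
  set h := i (t * a⁻¹, 1) * g with hhdef
  have hh : h ^ 2 = i (t, β t) := by
    calc h ^ 2 = i (t * a⁻¹, 1) * (g * i (t * a⁻¹, 1) * g⁻¹) * (g * g) := by rw [pow_two, hhdef]; group
      _ = i ((t * a⁻¹, 1) * θ g (t * a⁻¹, 1) * (a, b)) := by rw [← hθ, ← hab, map_mul, map_mul]
      _ = i (t, β t) := by
        rw [hg]
        refine congrArg i (Prod.ext ?_ ?_)
        · show t * a⁻¹ * α 1 * a = t
          rw [map_one]; group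
        · show 1 * β (t * a⁻¹) * b = β t
          rw [← hb, map_mul, map_inv]; group
  haveI := Fact.mk Nat.prime_two
  have hι := orderOf_TS_zero_one hm hF
  have h4 : h ^ 2 ^ 2 = i (TS hF 0 1, β (TS hF 0 1)) := by
    rw [pow_succ, pow_one, pow_mul, hh, ← map_pow, Prod.pow_mk, ← map_pow, ht2]
  have h8 : orderOf h = 2 ^ (2 + 1) := orderOf_eq_prime_pow (fun e => by
      rw [h4, ← map_one i] at e
      have h1 : (TS hF 0 1 : S) = 1 := congrArg Prod.fst (hi e)
      rw [h1, orderOf_one] at hι
      exact absurd hι (by norm_num))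
    (by
      rw [pow_succ, pow_mul, h4, ← map_pow, Prod.pow_mk, ← map_pow, ← hι, pow_orderOf_eq_one, map_one]
      exact map_one i)
  exact hsub.no_eight (g := h) (dvd_of_eq (by rw [h8]; norm_num))

/-- The square of `Sz(q)` has no proper extension with the element orders of the square. -/
theorem eq_top_of_square {G : Type u} [Group G] [Finite G] (hm2 : m ≠ 2) (hsub : Sub G m) (L : Subgroup G)
    [L.Normal] (e : L ≃* ↥(Cfsg.Lie.Sz F (2 ^ (m + 1))) × ↥(Cfsg.Lie.Sz F (2 ^ (m + 1))))
    (hC : Subgroup.centralizer (L : Set G) = ⊥) : L = ⊤ := by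
  obtain ⟨ψ⟩ := exists_twEquiv (F := F) hm hF
  exact eq_top_of_square_sl hm hF hm2 hsub L (e.trans (MulEquiv.prodCongr ψ.symm ψ.symm)) hC

end CfsgLib.Lie.SuzSquare
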