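import Cfsg.Agent.Lib.Lie.SuzSquare.Lifts
import Cfsg.Agent.Lib.PGroup.FourPrimes.Main

/-!
# The element orders of the square of a Suzuki group

Smaller Suzuki sections are too small for the classes, and the orders of the square exclude solvable groups.
-/

set_option autoImplicit false
set_option linter.unusedSectionVars false

namespace CfsgLib.Lie.SuzSquare

universe u v

theorem dvd_of_cls_one {n m : ℕ} (h : cls n 1 ∣ cls m 1) : 2 * n + 1 ∣ 2 * m + 1 := by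
  rw [cls_one, cls_one] at h
  have h1 := Nat.pow_sub_one_gcd_pow_sub_one 2 (2 * n + 1) (2 * m + 1)
  rw [Nat.gcd_eq_left h] at h1
  have h2 : ∀ k, 1 ≤ 2 ^ k := fun k => Nat.one_le_two_pow
  have h3 : 2 * n + 1 = Nat.gcd (2 * n + 1) (2 * m + 1) := Nat.pow_right_injective le_rfl (by
    have := h2 (2 * n + 1)
    have := h2 (Nat.gcd (2 * n + 1) (2 * m + 1))
    show 2 ^ (2 * n + 1) = 2 ^ _
    omega)
  rw [h3]
  exact Nat.gcd_dvd_right _ _

theorem three_mul_le {n m : ℕ} (h : 2 * n + 1 ∣ 2 * m + 1) (hne : n ≠ m) : 3 * (2 * n + 1) ≤ 2 * m + 1 := by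
  obtain ⟨c, hc⟩ := h
  rcases c with _ | _ | _ | c
  · omega
  · omega
  · omega
  · rw [hc, mul_comm 3]; exact Nat.mul_le_mul_left _ (by omega)

theorem two_pow_lt_cls {m : ℕ} (hm : 2 ≤ m) {l : Fin 4} (hl : l ≠ 0) : 2 ^ (2 * m) < cls m l := by
  have h1 : 2 ^ (m + 1) < 2 ^ (2 * m) := Nat.pow_lt_pow_right (by norm_num) (by omega)
  have h2 : 2 ^ (2 * m + 1) = 2 * 2 ^ (2 * m) := by rw [pow_succ']
  have hA : 1 ≤ 2 ^ m := Nat.one_le_two_pow
  fin_cases l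
  · exact absurd rfl hl
  · show _ < 2 ^ (2 * m + 1) - 1
    have : 2 ≤ 2 ^ (m + 1) := le_self_pow₀ (by norm_num) (by omega)
    omega
  · show _ < 2 ^ (2 * m + 1) + 2 ^ (m + 1) + 1; omega
  · show _ < 2 ^ (2 * m + 1) - 2 ^ (m + 1) + 1; omega

theorem single_lt {n m : ℕ} (hn : 1 ≤ n) (h : 2 * n + 1 ∣ 2 * m + 1) (hne : n ≠ m) {l : Fin 4} (hl : l ≠ 0)
    (l' : Fin 4) : (2 * n + 1) * cls n l' < cls m l := by
  have h3 := three_mul_le h hne
  have h2 : 2 * n + 1 ≤ 2 ^ (2 * n + 1) := Nat.lt_two_pow_self.le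
  calc (2 * n + 1) * cls n l' ≤ 2 ^ (2 * n + 1) * (2 * 2 ^ (2 * n + 1)) := Nat.mul_le_mul h2 (cls_le n hn l')
    _ = 2 ^ (4 * n + 3) := by rw [← pow_succ', ← pow_add]; congr 1; omega
    _ ≤ 2 ^ (2 * m) := Nat.pow_le_pow_right (by norm_num) (by omega)
    _ < cls m l := two_pow_lt_cls (by omega) hl

theorem six_mul_lt : ∀ d, 6 ≤ d → 6 * d < 2 ^ d := fun d hd => by
  induction d, hd using Nat.le_induction with
  | base => norm_num
  | succ k hk ih => rw [pow_succ]; omega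

theorem pair_lt {n₁ n₂ m : ℕ} (hn₁ : 1 ≤ n₁) (hn₂ : 1 ≤ n₂) (h₁ : 2 * n₁ + 1 ∣ 2 * m + 1)
    (h₂ : 2 * n₂ + 1 ∣ 2 * m + 1) (hne : n₁ ≠ m) (l₁ l₂ : Fin 4) :
    (2 * m + 1) * (cls n₁ l₁ * cls n₂ l₂) < cls m 2 * cls m 3 := by
  have h3 := three_mul_le h₁ hne
  obtain ⟨d, hd⟩ : ∃ d, d = 2 * m + 1 - (2 * n₁ + 1) := ⟨_, rfl⟩
  have hd6 := six_mul_lt d (by omega)
  have hle : 4 * (2 * m + 1) < 2 ^ d := lt_of_le_of_lt (by omega) hd6
  have hb : 2 * n₂ + 1 ≤ 2 * m + 1 := Nat.le_of_dvd (by omega) h₂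
  rw [cls_prod]
  calc (2 * m + 1) * (cls n₁ l₁ * cls n₂ l₂)
      ≤ (2 * m + 1) * ((2 * 2 ^ (2 * n₁ + 1)) * (2 * 2 ^ (2 * m + 1))) :=
        Nat.mul_le_mul_left _ (Nat.mul_le_mul (cls_le n₁ hn₁ l₁) ((cls_le n₂ hn₂ l₂).trans
          (Nat.mul_le_mul_left _ (Nat.pow_le_pow_right (by norm_num) hb))))
    _ = 4 * (2 * m + 1) * (2 ^ (2 * n₁ + 1) * 2 ^ (2 * m + 1)) := by ring
    _ ≤ 2 ^ d * (2 ^ (2 * n₁ + 1) * 2 ^ (2 * m + 1)) := Nat.mul_le_mul_right _ hle.le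
    _ = (2 ^ (2 * m + 1)) ^ 2 := by rw [← pow_add, ← pow_add, ← pow_mul]; congr 1; omega
    _ < _ := Nat.lt_succ_self _

theorem spectrum_square {G : Type u} {S : Type v} [Group G] [Group S] {m : ℕ} (hM : Model S m)
    (h : Set.range (orderOf : G → ℕ) = Set.range (orderOf : S × S → ℕ)) :
    Sub G m ∧ ∀ i j : Fin 4, i ≠ j → ∃ g : G, orderOf g = cls m i * cls m j := by
  constructor
  · intro g
    obtain ⟨p, hp⟩ : orderOf g ∈ Set.range (orderOf : S × S → ℕ) := h ▸ Set.mem_range_self g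
    obtain ⟨a, ha⟩ := hM.orders p.1
    obtain ⟨b, hb⟩ := hM.orders p.2
    rw [← hp, Prod.orderOf]
    by_cases hab : a = b
    · subst hab
      obtain ⟨j, hj⟩ := exists_ne a
      exact ⟨a, j, hj.symm, (Nat.lcm_dvd ha hb).trans (dvd_mul_right _ _)⟩
    · exact ⟨a, b, hab, Nat.lcm_dvd (ha.trans (dvd_mul_right _ _)) (hb.trans (dvd_mul_left _ _))⟩
  · intro i j hij
    obtain ⟨x, hx⟩ := hM.exists_order i
    obtain ⟨y, hy⟩ := hM.exists_order j
    obtain ⟨g, hg⟩ : orderOf (x, y) ∈ Set.range (orderOf : G → ℕ) := h ▸ Set.mem_range_self (x, y)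
    exact ⟨g, by rw [hg, Prod.orderOf, hx, hy]; exact (cls_coprime hij).lcm_eq_mul⟩

theorem not_isSolvable_of_full {G : Type u} [Group G] [Finite G] {m : ℕ} (hm : 1 ≤ m) (hsub : Sub G m)
    (hfull : ∀ i j : Fin 4, i ≠ j → ∃ g : G, orderOf g = cls m i * cls m j) : ¬ Group.IsSolvable G := by
  have hex : ∀ l : Fin 4, ∃ p : ℕ, p.Prime ∧ p ∣ cls m l := fun l => Nat.exists_prime_and_dvd (by
    rcases eq_or_ne l 0 with rfl | hl
    · rw [cls_zero]; norm_num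
    · have h8 : 8 ≤ 2 ^ (2 * m + 1) :=
        le_trans (by norm_num) (Nat.pow_le_pow_right (show 0 < 2 by norm_num) (show 3 ≤ 2 * m + 1 by omega))
      have h4 : 2 ^ (m + 1) < 2 ^ (2 * m + 1) := Nat.pow_lt_pow_right (by norm_num) (by omega)
      have hA : 1 ≤ 2 ^ m := Nat.one_le_two_pow
      fin_cases l
      · exact absurd rfl hl
      · show 2 ^ (2 * m + 1) - 1 ≠ 1; omega
      · show 2 ^ (2 * m + 1) + 2 ^ (m + 1) + 1 ≠ 1; omega
      · show 2 ^ (2 * m + 1) - 2 ^ (m + 1) + 1 ≠ 1; omega)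
  choose P hP hPd using hex
  have hinj : Function.Injective P := fun a b e => cls_disjoint (hP a) (hPd a) (e ▸ hPd b)
  refine CfsgLib.PGroup.FourPrimes.not_isSolvable (Finset.univ.image P) ?_ ?_ ?_ ?_
  · rw [Finset.card_image_of_injective _ hinj]; rfl
  · simpa using fun a => hP a
  · intro p hp q hq hpq
    obtain ⟨a, -, rfl⟩ := Finset.mem_image.1 hp
    obtain ⟨b, -, rfl⟩ := Finset.mem_image.1 hq
    obtain ⟨g, hg⟩ := hfull a b fun e => hpq (by rw [e])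
    obtain ⟨c, hc⟩ : P a * P b ∣ orderOf g := hg ▸ mul_dvd_mul (hPd a) (hPd b)
    refine ⟨g ^ c, ?_⟩
    rw [orderOf_pow, hc, Nat.gcd_eq_right (dvd_mul_left c _),
      Nat.mul_div_cancel _ (Nat.pos_of_mul_pos_left (hc ▸ orderOf_pos g))]
  · intro p hp q hq r hr hpq hqr hpr g hg
    obtain ⟨a, -, rfl⟩ := Finset.mem_image.1 hp
    obtain ⟨b, -, rfl⟩ := Finset.mem_image.1 hq
    obtain ⟨c, -, rfl⟩ := Finset.mem_image.1 hr
    have hord : ∀ x y : ℕ, orderOf g = x * y → orderOf (g ^ y) = x := fun x y e => by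
      rw [orderOf_pow, e, Nat.gcd_eq_right (dvd_mul_left y x),
        Nat.mul_div_cancel _ (Nat.pos_of_mul_pos_left (e ▸ orderOf_pos g))]
    exact hsub.no_three (hP a) (hP b) (hP c) (hPd a) (hPd b) (hPd c) (fun e => hpq (by rw [e]))
      (fun e => hpr (by rw [e])) (fun e => hqr (by rw [e]))
      (hord (P a) (P b * P c) (by rw [hg, mul_assoc]))
      (hord (P b) (P a * P c) (by rw [hg, mul_left_comm, mul_assoc]))
      (hord (P c) (P a * P b) (by rw [hg, mul_comm]))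
      (Commute.pow_pow_self g _ _) (Commute.pow_pow_self g _ _) (Commute.pow_pow_self g _ _)

end CfsgLib.Lie.SuzSquare
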