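import Cfsg.Agent.Lib.Lie.SuzSquare.Factors
import Cfsg.Agent.Lib.Lie.SuzSquare.Outer
import Cfsg.Agent.Lib.Lie.SuzSquare.Spectrum
import Cfsg.Agent.Lib.CIT.SzModel

/-!
# A group with the element orders of the square of a Suzuki group is that square
-/

set_option autoImplicit false
set_option linter.style.haveILetI false
set_option linter.unusedSectionVars false

namespace CfsgLib.Lie.SuzSquare

open Subgroup CfsgLib.Coprime

universe u v

variable {Q : Type u} [Group Q] [Finite Q] {m : ℕ}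

/-- The parameter of a factor. -/
theorem IsSz.dvd (hsub : Sub Q m) {T : Subgroup Q} {n : ℕ} (h : IsSz T n) : 2 * n + 1 ∣ 2 * m + 1 := by
  refine dvd_of_cls_one ((Nat.dvd_iff_prime_pow_dvd_dvd _ _).2 fun p k hp hd => ?_)
  rcases Nat.eq_zero_or_pos k with rfl | hk
  · simp
  obtain ⟨x, hx⟩ := h.model.exists_order 1
  have hd' : p ^ k ∣ orderOf (x : Q) := by rwa [Subgroup.orderOf_coe, hx]
  have hpd : p ∣ cls n 1 := (dvd_pow_self p hk.ne').trans hd
  obtain ⟨l, hl⟩ := hsub.exists_cls hp ((dvd_pow_self p hk.ne').trans hd')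
  obtain rfl := class_one hp hpd hl
  exact hsub.dvd_cls hp hd' hl

/-- The action of a normalizing element is inner for the power of the outer exponent. -/
theorem IsSz.exists_inner {T : Subgroup Q} {n : ℕ} (h : IsSz T n) {g : Q} (hg : g ∈ normalizer (T : Set Q))
    {N : ℕ} (hN : 2 * n + 1 ∣ N) : ∃ t ∈ T, ∀ u ∈ T, g ^ N * u * (g ^ N)⁻¹ = t * u * t⁻¹ := by
  obtain ⟨k, rfl⟩ := hN
  obtain ⟨t, ht⟩ := h.pow_inner (T.normalizerMonoidHom ⟨g, hg⟩)
  refine ⟨((t ^ k : T) : Q), SetLike.coe_mem _, fun u hu => ?_⟩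
  have e : T.normalizerMonoidHom ⟨g ^ ((2 * n + 1) * k), pow_mem hg _⟩ = MulAut.conj (t ^ k) := by
    rw [map_pow, ← ht, ← pow_mul, ← map_pow]
    rfl
  exact congrArg Subtype.val (MulEquiv.congr_fun e ⟨u, hu⟩)

theorem mem_of_conj_eq {L : Subgroup Q} (hC : centralizer (L : Set Q) = ⊥) {h t : Q} (ht : t ∈ L)
    (he : ∀ u ∈ L, h * u * h⁻¹ = t * u * t⁻¹) : h ∈ L := by
  have h1 : t⁻¹ * h ∈ centralizer (L : Set Q) := mem_centralizer_iff.2 fun u hu =>
    (show (t⁻¹ * h) * u = u * (t⁻¹ * h) from by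
      calc (t⁻¹ * h) * u = t⁻¹ * (h * u * h⁻¹) * h := by group
        _ = u * (t⁻¹ * h) := by rw [he u hu]; group).symm
  rw [hC, mem_bot, inv_mul_eq_one] at h1
  exact h1 ▸ ht

theorem pow_mem_single {L : Subgroup Q} [L.Normal] (hC : centralizer (L : Set Q) = ⊥) {n : ℕ} (h : IsSz L n)
    (g : Q) : g ^ (2 * n + 1) ∈ L := by
  obtain ⟨t, ht, he⟩ := h.exists_inner (g := g) (normalizer_eq_top_iff.2 ‹L.Normal› ▸ mem_top g) dvd_rfl
  exact mem_of_conj_eq hC ht he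

/-- A simple group normalised by both factors is one of them. -/
theorem factor_cases {T₁ T₂ X : Subgroup Q} (hC : centralizer ((T₁ ⊔ T₂ : Subgroup Q) : Set Q) = ⊥)
    (hX : IsSimpleGroup X) (h₁ : IsSimpleGroup T₁) (h₂ : IsSimpleGroup T₂)
    (hXL : X ≤ normalizer (T₁ : Set Q) ⊓ normalizer (T₂ : Set Q))
    (hn₁ : T₁ ≤ normalizer (X : Set Q)) (hn₂ : T₂ ≤ normalizer (X : Set Q)) : X = T₁ ∨ X = T₂ := by
  have key : ∀ T : Subgroup Q, IsSimpleGroup T → X ≤ normalizer (T : Set Q) → T ≤ normalizer (X : Set Q) →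
      X = T ∨ T ≤ centralizer (X : Set Q) := by
    intro T hT hXT hTX
    haveI := hX
    haveI := hT
    haveI : ((X ⊓ T).subgroupOf T).Normal :=
      normal_subgroupOf_of_le_normalizer (inf_le_normalizer hTX le_normalizer)
    haveI : ((X ⊓ T).subgroupOf X).Normal :=
      normal_subgroupOf_of_le_normalizer (inf_le_normalizer le_normalizer hXT)
    rcases Subgroup.Normal.eq_bot_or_eq_top (inferInstance : ((X ⊓ T).subgroupOf T).Normal) with e | e
    · right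
      intro t ht
      refine mem_centralizer_iff.2 fun x hx => ?_
      have h1 : x * t * x⁻¹ * t⁻¹ ∈ X ⊓ T := Subgroup.mem_inf.2 ⟨by
        rw [show x * t * x⁻¹ * t⁻¹ = x * (t * x⁻¹ * t⁻¹) by group]
        exact mul_mem hx ((mem_normalizer_iff.1 (hTX ht) _).1 (inv_mem hx)),
        mul_mem ((mem_normalizer_iff.1 (hXT hx) t).1 ht) (inv_mem ht)⟩
      have h2 : (⟨_, h1.2⟩ : T) ∈ (X ⊓ T).subgroupOf T := h1
      rw [e, mem_bot] at h2
      exact mul_inv_eq_iff_eq_mul.1 (mul_inv_eq_one.1 (congrArg Subtype.val h2))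
    · rcases Subgroup.Normal.eq_bot_or_eq_top (inferInstance : ((X ⊓ T).subgroupOf X).Normal) with e' | e'
      · haveI : Nontrivial T := inferInstance
        obtain ⟨y, hy⟩ := exists_ne (1 : T)
        have h1 : (y : Q) ∈ X ⊓ T := mem_subgroupOf.1 (e ▸ mem_top y)
        have h2 : (⟨_, h1.1⟩ : X) ∈ (X ⊓ T).subgroupOf X := h1
        rw [e', mem_bot] at h2
        exact absurd (Subtype.ext (congrArg Subtype.val h2 : (y : Q) = 1) : y = 1) hy
      · exact Or.inl (le_antisymm ((subgroupOf_eq_top.1 e').trans inf_le_right)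
          ((subgroupOf_eq_top.1 e).trans inf_le_left))
  rcases key T₁ h₁ (hXL.trans inf_le_left) hn₁ with e | c₁
  · exact Or.inl e
  rcases key T₂ h₂ (hXL.trans inf_le_right) hn₂ with e | c₂
  · exact Or.inr e
  exfalso
  haveI := hX
  obtain ⟨y, hy⟩ := exists_ne (1 : X)
  refine hy (Subtype.ext (mem_bot.1 (hC ▸ mem_centralizer_iff.2 fun u hu => ?_)))
  exact (mem_centralizer_iff.1 ((sup_le c₁ c₂) hu) y y.2).symm

section Pair

variable {T₁ T₂ : Subgroup Q} {n₁ n₂ : ℕ} [(T₁ ⊔ T₂).Normal]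
  (hC : centralizer ((T₁ ⊔ T₂ : Subgroup Q) : Set Q) = ⊥) (hc : ∀ x ∈ T₁, ∀ y ∈ T₂, Commute x y)
  (h₁ : IsSz T₁ n₁) (h₂ : IsSz T₂ n₂)

include hc in
theorem le_normalizer_left : T₁ ⊔ T₂ ≤ normalizer (T₁ : Set Q) :=
  sup_le le_normalizer fun y hy => mem_normalizer_fintype fun x hx => by
    rw [← (hc x hx y hy).eq, mul_inv_cancel_right]; exact hx

include hc in
theorem le_normalizer_right : T₁ ⊔ T₂ ≤ normalizer (T₂ : Set Q) :=
  sup_le (fun y hy => mem_normalizer_fintype fun x hx => by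
    rw [(hc y hy x hx).eq, mul_inv_cancel_right]; exact hx) le_normalizer

include hc h₁ in
theorem inf_eq_bot : T₁ ⊓ T₂ = ⊥ := by
  haveI := h₁.model.simple
  refine (eq_bot_iff_forall _).2 fun x hx => ?_
  have hx' : (⟨x, hx.1⟩ : T₁) ∈ center T₁ := mem_center_iff.2 fun y => Subtype.ext (hc y y.2 x hx.2).eq
  rcases (inferInstance : (center T₁).Normal).eq_bot_or_eq_top with e | e
  · rw [e, mem_bot] at hx'
    exact congrArg Subtype.val hx'
  · exact absurd (isMulCommutative_iff.2 fun a b => mem_center_iff.1 (e ▸ mem_top b) a) h₁.model.noncomm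

include hC hc h₁ h₂ in
theorem conj_factor (g : Q) {T : Subgroup Q} (hT : T = T₁ ∨ T = T₂) : conjBy g T = T₁ ∨ conjBy g T = T₂ := by
  have hTS : IsSimpleGroup T := by rcases hT with rfl | rfl; exacts [h₁.model.simple, h₂.model.simple]
  have hTL : T ≤ T₁ ⊔ T₂ := by rcases hT with rfl | rfl; exacts [le_sup_left, le_sup_right]
  have hLT : T₁ ⊔ T₂ ≤ normalizer (T : Set Q) := by
    rcases hT with rfl | rfl; exacts [le_normalizer_left hc, le_normalizer_right hc]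
  let e : T ≃* conjBy g T := T.equivMapOfInjective _ (MulAut.conj g).injective
  haveI := hTS
  haveI : Nontrivial (conjBy g T) := e.symm.toEquiv.nontrivial
  have hg : conjBy g (T₁ ⊔ T₂) = T₁ ⊔ T₂ :=
    conjBy_eq_self_iff.2 (normalizer_eq_top_iff.2 (inferInstance : (T₁ ⊔ T₂).Normal) ▸ mem_top g)
  have hle : conjBy g T ≤ T₁ ⊔ T₂ := hg ▸ map_mono hTL
  have hnorm : T₁ ⊔ T₂ ≤ normalizer ((conjBy g T : Subgroup Q) : Set Q) := by
    rw [← hg]
    exact (map_mono hLT).trans (le_normalizer_map _)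
  exact factor_cases hC (MulEquiv.isSimpleGroup e.symm) h₁.model.simple h₂.model.simple
    (le_inf (hle.trans (le_normalizer_left hc)) (hle.trans (le_normalizer_right hc)))
    (le_sup_left.trans hnorm) (le_sup_right.trans hnorm)

include hC hc h₁ h₂ in
theorem pow_mem_pair {N : ℕ} (d₁ : 2 * n₁ + 1 ∣ N) (d₂ : 2 * n₂ + 1 ∣ N) (g : Q) : g ^ (2 * N) ∈ T₁ ⊔ T₂ := by
  have hne : T₁ ≠ T₂ := fun e => by
    haveI := h₁.model.simple
    have h := inf_eq_bot hc h₁
    rw [← e, inf_idem] at h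
    exact (nontrivial_iff_ne_bot T₁).1 inferInstance h
  have hinj : ∀ {A B : Subgroup Q}, conjBy g A = conjBy g B → A = B := fun h =>
    map_injective (MulAut.conj g).injective h
  have hsq : ∀ T, T = T₁ ∨ T = T₂ → g ^ 2 ∈ normalizer (T : Set Q) := by
    have key : conjBy g (conjBy g T₁) = T₁ ∧ conjBy g (conjBy g T₂) = T₂ := by
      rcases conj_factor hC hc h₁ h₂ g (Or.inl rfl) with a | a <;>
        rcases conj_factor hC hc h₁ h₂ g (Or.inr rfl) with b | b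
      · exact absurd (hinj (a.trans b.symm)) hne
      · exact ⟨by rw [a, a], by rw [b, b]⟩
      · exact ⟨by rw [a, b], by rw [b, a]⟩
      · exact absurd (hinj (a.trans b.symm)) hne
    intro T hT
    refine conjBy_eq_self_iff.1 ?_
    rw [sq, ← conjBy_conjBy]
    rcases hT with rfl | rfl
    exacts [key.1, key.2]
  obtain ⟨t₁, ht₁, e₁⟩ := h₁.exists_inner (hsq T₁ (Or.inl rfl)) d₁
  obtain ⟨t₂, ht₂, e₂⟩ := h₂.exists_inner (hsq T₂ (Or.inr rfl)) d₂
  rw [← pow_mul] at e₁ e₂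
  refine mem_of_conj_eq hC (mul_mem_sup ht₁ ht₂) fun u hu => ?_
  suffices T₁ ⊔ T₂ ≤ MonoidHom.eqLocus (MulAut.conj (g ^ (2 * N))).toMonoidHom (MulAut.conj (t₁ * t₂)).toMonoidHom
    from this hu
  refine sup_le (fun x hx => ?_) fun x hx => ?_
  · show g ^ (2 * N) * x * (g ^ (2 * N))⁻¹ = t₁ * t₂ * x * (t₁ * t₂)⁻¹
    rw [e₁ x hx, mul_assoc t₁ t₂ x, ← (hc x hx t₂ ht₂).eq]
    group
  · show g ^ (2 * N) * x * (g ^ (2 * N))⁻¹ = t₁ * t₂ * x * (t₁ * t₂)⁻¹
    rw [e₂ x hx, show t₁ * t₂ * x * (t₁ * t₂)⁻¹ = t₁ * (t₂ * x * t₂⁻¹) * t₁⁻¹ by group,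
      (hc t₁ ht₁ _ (mul_mem (mul_mem ht₂ hx) (inv_mem ht₂))).eq, mul_inv_cancel_right]

include hc in
/-- The product map. -/
theorem exists_mul_equiv (h₁ : IsSz T₁ n₁) : Nonempty ((T₁ × T₂) ≃* (T₁ ⊔ T₂ : Subgroup Q)) := by
  let φ : T₁ × T₂ →* Q := T₁.subtype.noncommCoprod T₂.subtype fun a b => hc a a.2 b b.2
  have hinj : Function.Injective φ := (injective_iff_map_eq_one φ).2 fun x hx => by
    have h : (x.1 : Q) * (x.2 : Q) = 1 := hx
    have h' : (x.1 : Q) ∈ T₁ ⊓ T₂ := Subgroup.mem_inf.2 ⟨x.1.2, eq_inv_of_mul_eq_one_left h ▸ inv_mem x.2.2⟩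
    rw [inf_eq_bot hc h₁, mem_bot] at h'
    rw [h', one_mul] at h
    exact Prod.ext (Subtype.ext h') (Subtype.ext h)
  have hr : φ.range = T₁ ⊔ T₂ := by
    refine le_antisymm ?_ (sup_le (fun x hx => ⟨(⟨x, hx⟩, 1), mul_one x⟩) fun x hx => ⟨(1, ⟨x, hx⟩), one_mul x⟩)
    rintro _ ⟨⟨a, b⟩, rfl⟩
    exact mul_mem_sup a.2 b.2
  exact ⟨(MonoidHom.ofInjective hinj).trans (MulEquiv.subgroupCongr hr)⟩

include hc h₁ h₂ in
theorem orders_pair {x : Q} (hx : x ∈ T₁ ⊔ T₂) : ∃ l₁ l₂, orderOf x ∣ cls n₁ l₁ * cls n₂ l₂ := by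
  obtain ⟨e⟩ := exists_mul_equiv hc h₁
  obtain ⟨⟨a, b⟩, hab⟩ := e.surjective ⟨x, hx⟩
  obtain ⟨l₁, hl₁⟩ := h₁.model.orders a
  obtain ⟨l₂, hl₂⟩ := h₂.model.orders b
  refine ⟨l₁, l₂, ?_⟩
  rw [← Subgroup.orderOf_mk x hx, ← hab, MulEquiv.orderOf_eq, Prod.orderOf]
  exact (Nat.lcm_dvd_mul _ _).trans (mul_dvd_mul hl₁ hl₂)

end Pair

variable {G : Type u} [Group G] [Finite G]

theorem orderOf_dvd_mul_pow {x : Q} {k : ℕ} : orderOf x ∣ k * orderOf (x ^ k) :=
  orderOf_dvd_of_pow_eq_one (by rw [pow_mul, pow_orderOf_eq_one])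

/-- A part of an order prime to the kernel survives in the quotient. -/
theorem dvd_image_order {R : Subgroup G} [R.Normal] {g : G} {X : ℕ} (hX : X ∣ orderOf g)
    (hcop : X.Coprime (Nat.card R)) : X ∣ orderOf (g : G ⧸ R) := by
  refine hcop.dvd_of_dvd_mul_right (hX.trans ((orderOf_dvd_mul_pow (k := orderOf (g : G ⧸ R))).trans ?_))
  refine mul_dvd_mul_left _ (Subgroup.orderOf_dvd_natCard R ?_)
  rw [← QuotientGroup.eq_one_iff, QuotientGroup.mk_pow, pow_orderOf_eq_one]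

theorem two_mul_lt_cls {m : ℕ} (hm : 1 ≤ m) {i : Fin 4} (hi : i ≠ 0) : 2 * m + 1 < cls m i := by
  have h2 : 2 ^ (m + 1) + 2 ^ (m + 1) ≤ 2 ^ (2 * m + 1) := by
    rw [← two_mul, ← pow_succ']
    exact Nat.pow_le_pow_right (by norm_num) (by omega)
  have h3 : 2 * m + 2 ≤ 2 ^ (m + 1) := by
    rw [pow_succ']
    have := Nat.lt_two_pow_self (n := m)
    omega
  fin_cases i
  · exact absurd rfl hi
  · show 2 * m + 1 < 2 ^ (2 * m + 1) - 1; omega
  · show 2 * m + 1 < 2 ^ (2 * m + 1) + 2 ^ (m + 1) + 1; omega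
  · show 2 * m + 1 < 2 ^ (2 * m + 1) - 2 ^ (m + 1) + 1; omega

variable {F : Type v} [Field F] [Fintype F]

/-- There is not one factor. -/
theorem not_single (hm : 1 ≤ m) (hsub : Sub G m)
    (hfull : ∀ i j : Fin 4, i ≠ j → ∃ g : G, orderOf g = cls m i * cls m j) {R : Subgroup G} [R.Normal]
    (hRs : Group.IsSolvable R) {L : Subgroup (G ⧸ R)} [L.Normal] (hC : centralizer (L : Set (G ⧸ R)) = ⊥)
    {n : ℕ} (h : IsSz L n) : False := by
  classical
  have hdvd := h.dvd (hsub.of_surjective (QuotientGroup.mk' R) (QuotientGroup.mk'_surjective R))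
  have hN : Odd (2 * n + 1) := ⟨n, rfl⟩
  set B : Fin 4 → Prop := fun l => ∃ p : ℕ, p.Prime ∧ p ∣ cls m l ∧ p ∣ Nat.card R
  have hcop : ∀ l, ¬ B l → (cls m l).Coprime (Nat.card R) := fun l hl =>
    Nat.coprime_of_dvd fun p hp h1 h2 => hl ⟨p, hp, h1, h2⟩
  have himg : ∀ i j, i ≠ j → ∃ g : G, ∃ l, cls m i ∣ orderOf g ∧ cls m j ∣ orderOf g ∧
      orderOf (g : G ⧸ R) ∣ (2 * n + 1) * cls n l := by
    intro i j hij
    obtain ⟨g, hg⟩ := hfull i j hij
    obtain ⟨l, hl⟩ := h.model.orders ⟨_, pow_mem_single hC h (g : G ⧸ R)⟩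
    exact ⟨g, l, hg ▸ dvd_mul_right _ _, hg ▸ dvd_mul_left _ _,
      orderOf_dvd_mul_pow.trans (mul_dvd_mul_left _ (by rwa [Subgroup.orderOf_mk] at hl))⟩
  -- at most one class is missing
  obtain ⟨i₀, hi₀, hcase⟩ : ∃ i₀, (∀ i, i ≠ i₀ → B i) ∧ (i₀ = 0 ∨ n = m) := by
    rcases eq_or_ne n m with rfl | hnm
    · by_cases hall : ∀ i, B i
      · exact ⟨0, fun i _ => hall i, Or.inr rfl⟩
      push Not at hall
      obtain ⟨i, hi⟩ := hall
      refine ⟨i, fun j hj => ?_, Or.inr rfl⟩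
      by_contra hBj
      obtain ⟨g, l, hgi, hgj, hl⟩ := himg i j hj.symm
      have key : ∀ k, ¬ B k → cls n k ∣ orderOf g → k ≠ l → False := by
        intro k hk hd hkl
        have h1 := (cls_coprime hkl).dvd_of_dvd_mul_right ((dvd_image_order hd (hcop k hk)).trans hl)
        rcases eq_or_ne k 0 with rfl | hk0
        · exact absurd (even_iff_two_dvd.2 ((two_dvd_cls n).trans h1)) (Nat.not_even_iff_odd.2 hN)
        · exact absurd (Nat.le_of_dvd (by omega) h1) (not_le.2 (two_mul_lt_cls hm hk0))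
      rcases eq_or_ne i l with rfl | hil
      · exact key j hBj hgj hj
      · exact key i hi hgi hil
    · refine ⟨0, fun i hi => by_contra fun hBi => ?_, Or.inl rfl⟩
      obtain ⟨j, hj⟩ := exists_ne i
      obtain ⟨g, l, hgi, -, hl⟩ := himg i j hj.symm
      exact absurd (Nat.le_of_dvd (Nat.mul_pos (by omega) (cls_pos n l))
        ((dvd_image_order hgi (hcop i hBi)).trans hl)) (not_le.2 (single_lt h.model.one_le hdvd hnm hi l))
  choose p hp hpl hpR using fun i : Fin 3 => hi₀ (i₀.succAbove i) (Fin.succAbove_ne i₀ i)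
  let φ : L.comap (QuotientGroup.mk' R) →* L := (QuotientGroup.mk' R).subgroupComap L
  have hle : R ≤ L.comap (QuotientGroup.mk' R) := fun x hx => by
    show QuotientGroup.mk' R x ∈ L
    rw [QuotientGroup.mk'_apply, (QuotientGroup.eq_one_iff x).2 hx]; exact one_mem L
  have hker : φ.ker = R.subgroupOf (L.comap (QuotientGroup.mk' R)) := by
    ext x
    rw [MonoidHom.mem_ker, mem_subgroupOf, ← QuotientGroup.eq_one_iff, Subtype.ext_iff]
    rfl
  haveI := h.model.simple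
  refine not_three_classes hsub ((QuotientGroup.mk' R).subgroupComap_surjective_of_surjective L
    (QuotientGroup.mk'_surjective R)) (hker ▸ Coprime.isSolvable_congr (subgroupOfEquivOfLe hle).symm hRs) h.model
    i₀.succAbove Fin.succAbove_right_injective p hp hpl (fun i => ?_) ?_
  · rw [hker, Nat.card_congr (subgroupOfEquivOfLe hle).toEquiv]
    exact hpR i
  · rcases hcase with rfl | e
    · exact Or.inl fun i => Fin.succAbove_ne 0 i
    · exact Or.inr e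

theorem IsSz.congr {T : Type u} [Group T] {n : ℕ} (h : IsSz T n) (hF : Fintype.card F = 2 ^ (2 * n + 1)) :
    Nonempty (T ≃* ↥(Cfsg.Lie.Sz F (2 ^ (n + 1)))) := by
  obtain ⟨K, iK, iK', -, hK, ⟨e⟩⟩ := h
  obtain ⟨e'⟩ := CIT.sz_congr (FiniteField.ringEquivOfCardEq (K := K) (K' := F) (hK.trans hF.symm)) (2 ^ (n + 1))
  exact ⟨e.trans e'⟩

/-- A group with the element orders of the square is the square. -/
theorem recognizable (hm : 1 ≤ m) (hm2 : m ≠ 2) (hF : Fintype.card F = 2 ^ (2 * m + 1)) (hsub : Sub G m)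
    (hfull : ∀ i j : Fin 4, i ≠ j → ∃ g : G, orderOf g = cls m i * cls m j) :
    Nonempty (G ≃* ↥(Cfsg.Lie.Sz F (2 ^ (m + 1))) × ↥(Cfsg.Lie.Sz F (2 ^ (m + 1)))) := by
  obtain ⟨R, hRn, hRs, hnt, hrad⟩ := exists_radical G (not_isSolvable_of_full hm hsub hfull)
  haveI := hRn
  haveI := hnt
  have hsubQ := hsub.of_surjective (QuotientGroup.mk' R) (QuotientGroup.mk'_surjective R)
  obtain ⟨L, hLn, hC, ⟨n, hn⟩ | ⟨T₁, T₂, n₁, n₂, hc, rfl, h₁, h₂⟩⟩ := exists_socle hsubQ hm hrad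
  · haveI := hLn
    exact (not_single hm hsub hfull hRs hC hn).elim
  haveI := hLn
  have d₁ := h₁.dvd hsubQ
  have d₂ := h₂.dvd hsubQ
  -- a small factor contradicts the element of order `q ^ 2 + 1`
  have hbig : (∀ p : ℕ, p.Prime → p ∣ Nat.card R → p ∣ cls m 1) → n₁ = m ∧ n₂ = m := by
    intro hR
    obtain ⟨g, hg⟩ := hfull 2 3 (by decide)
    have hcop : (cls m 2 * cls m 3).Coprime (Nat.card R) := Nat.coprime_of_dvd fun p hp h1 h2 => by
      rcases hp.dvd_mul.1 h1 with h | h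
      · exact absurd (cls_disjoint hp (hR p hp h2) h) (by decide)
      · exact absurd (cls_disjoint hp (hR p hp h2) h) (by decide)
    have hd := dvd_image_order (R := R) hg.symm.dvd hcop
    obtain ⟨l₁, l₂, hl⟩ := orders_pair hc h₁ h₂ (pow_mem_pair hC hc h₁ h₂ d₁ d₂ (g : G ⧸ R))
    have h2 : (cls m 2 * cls m 3).Coprime 2 :=
      ((cls_odd m (i := 2) (by decide)).mul (cls_odd m (i := 3) (by decide))).coprime_two_right
    have hle : cls m 2 * cls m 3 ≤ (2 * m + 1) * (cls n₁ l₁ * cls n₂ l₂) := by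
      refine Nat.le_of_dvd (Nat.mul_pos (by omega) (Nat.mul_pos (cls_pos _ _) (cls_pos _ _))) (h2.dvd_of_dvd_mul_left ?_)
      rw [← mul_assoc]
      exact hd.trans (orderOf_dvd_mul_pow.trans (mul_dvd_mul_left _ hl))
    have s₁ : n₁ = m := by_contra fun hne =>
      absurd (pair_lt h₁.model.one_le h₂.model.one_le d₁ d₂ hne l₁ l₂) (not_lt.2 hle)
    have s₂ : n₂ = m := by_contra fun hne =>
      absurd (pair_lt h₂.model.one_le h₁.model.one_le d₂ d₁ hne l₂ l₁) (not_lt.2 (mul_comm (cls n₁ l₁) _ ▸ hle))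
    exact ⟨s₁, s₂⟩
  have hR0 : R = ⊥ := by
    by_contra hR
    have hk : (QuotientGroup.mk' R).ker = R := QuotientGroup.ker_mk' R
    obtain ⟨hπ, hs₁, -⟩ := two_sections hsub (QuotientGroup.mk' R) (QuotientGroup.mk'_surjective R)
      (hk.symm ▸ hRs) hc h₁.model h₂.model (hk.symm ▸ hR)
    exact hs₁ (hbig (fun p hp hd => hπ p hp (hk.symm ▸ hd))).1
  subst hR0
  obtain ⟨e1, e2⟩ := hbig fun p hp hd => absurd (Subgroup.card_bot (G := G) ▸ hd) hp.not_dvd_one
  subst e1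
  subst e2
  obtain ⟨a⟩ := h₁.congr hF
  obtain ⟨b⟩ := h₂.congr hF
  obtain ⟨c⟩ := exists_mul_equiv hc h₁
  let e := c.symm.trans (MulEquiv.prodCongr a b)
  have htop := eq_top_of_square hm hF hm2 hsubQ _ e hC
  exact ⟨(QuotientGroup.quotientBot (G := G)).symm.trans
    (topEquiv.symm.trans ((MulEquiv.subgroupCongr htop.symm).trans e))⟩

end CfsgLib.Lie.SuzSquare
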