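import Cfsg.Agent.Lib.Lie.SuzSquare.Lifts
import Cfsg.Agent.Lib.Lie.Suz.Sub.Max
import Cfsg.Agent.Lib.Lie.Suz.Twisted

/-!
# The facts on a Suzuki group used for the square
-/

set_option autoImplicit false
set_option linter.style.haveILetI false
set_option linter.unusedSectionVars false

namespace CfsgLib.Lie.SuzSquare

open Subgroup CfsgLib.Lie.Suz
open scoped MatrixGroups

universe v w

theorem Model.of_equiv {T : Type v} [Group T] {T' : Type w} [Group T'] {n : ℕ} (h : Model T n) (e : T ≃* T') :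
    Model T' n := by
  haveI := h.simple
  refine ⟨e.isSimpleGroup_congr.1 h.simple, fun hc => h.noncomm ⟨⟨fun a b => e.injective (by
    rw [map_mul, map_mul, hc.is_comm.comm])⟩⟩, h.one_le, ?_, ?_, fun x => ?_, fun l => ?_⟩
  · obtain ⟨y, τ, p, k, i, hp, hk, hd, hnd, hτ, hy, hconj, hfpf⟩ := h.torus
    refine ⟨e y, e τ, p, k, i, hp, hk, hd, hnd, by rw [MulEquiv.orderOf_eq, hτ], by rw [MulEquiv.orderOf_eq, hy],
      by rw [← map_inv, ← map_mul, ← map_mul, hconj, map_pow], fun j hj a ha hc => ?_⟩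
    obtain ⟨z, rfl⟩ := mem_zpowers_iff.1 ha
    rw [← map_pow] at hj
    rw [← map_zpow, ← map_pow] at hc
    rw [← map_zpow, hfpf j (fun e' => hj (by rw [e', map_one])) (τ ^ z) (zpow_mem (mem_zpowers τ) z)
      (e.injective (by rw [map_mul, map_mul]; exact hc.eq)), map_one]
  · intro p k hp hk hd hnd
    obtain ⟨U, x, hU, hx, hxN, hsq, ⟨u, hu, huu⟩, hfpf⟩ := h.borel p k hp hk hd hnd
    refine ⟨U.map e.toMonoidHom, e x, hU.map _, by rw [MulEquiv.orderOf_eq, hx], ?_, ?_, ⟨e u, mem_map_of_mem _ hu,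
      fun e' => huu (e.injective (by rw [map_mul, map_one, e']))⟩, ?_⟩
    · refine mem_normalizer_iff.2 fun a => ?_
      obtain ⟨a, rfl⟩ := e.surjective a
      rw [← map_inv, ← map_mul, ← map_mul]
      exact (mem_map_iff_mem e.injective).trans (((mem_normalizer_iff.1 hxN a)).trans (mem_map_iff_mem e.injective).symm)
    · rintro _ ⟨a, ha, rfl⟩ _ ⟨b, hb, rfl⟩
      show Commute (e a) (e b * e b)
      rw [← map_mul]
      exact (hsq a ha b hb).map e
    · rintro j hj _ ⟨a, ha, rfl⟩ hc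
      rw [← map_pow] at hj hc
      show e a = 1
      rw [hfpf j (fun e' => hj (by rw [e', map_one])) a ha (e.injective (by rw [map_mul, map_mul]; exact hc.eq)),
        map_one]
  · obtain ⟨x, rfl⟩ := e.surjective x
    rw [MulEquiv.orderOf_eq]
    exact h.orders x
  · obtain ⟨x, hx⟩ := h.exists_order l
    exact ⟨e x, by rw [MulEquiv.orderOf_eq, hx]⟩

variable {F : Type v} [Field F] [Fintype F] {m : ℕ} (hm : 1 ≤ m) (hF : Fintype.card F = 2 ^ (2 * m + 1))
include hm hF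

theorem TS_mul (a b a' b' : F) :
    TS hF a b * TS hF a' b' = (TS hF (a + a') (b + b' + th m a * a') : Cfsg.Sz F m) :=
  Subtype.ext (T_mul (isSuzField hF) a b a' b')

theorem exists_torus_data : HasTorus (Cfsg.Sz F m) m := by
  classical
  haveI : Fact (Nat.Prime 2) := ⟨Nat.prime_two⟩
  obtain ⟨T, hT, hcT, hcN⟩ := exists_tori hm hF (Or.inl rfl)
  have hc2 : Nat.card T = cls m 2 := hcT
  have hodd : Odd (Nat.card T) := hc2 ▸ cls_odd m (by decide)
  haveI := torus_cyclic hm hF hT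
  obtain ⟨g, hg⟩ := IsCyclic.exists_generator (α := T)
  have hgo : orderOf g = Nat.card T := orderOf_eq_card_of_forall_mem_zpowers hg
  obtain ⟨p, hp, hpT⟩ := Nat.exists_prime_and_dvd (n := Nat.card T) (by
    rw [hc2]; show 2 ^ (2 * m + 1) + 2 ^ (m + 1) + 1 ≠ 1
    have := Nat.one_le_two_pow (n := m + 1)
    omega)
  haveI := Fact.mk hp
  set k := padicValNat p (Nat.card T)
  have hk : 1 ≤ k := one_le_padicValNat_of_dvd Nat.card_pos.ne' hpT
  have hpk : p ^ k ∣ Nat.card T := pow_padicValNat_dvd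
  obtain ⟨c, hc⟩ := hpk
  set τ : T := g ^ c with hτdef
  have hτ : orderOf (τ : Cfsg.Sz F m) = p ^ k := by
    rw [Subgroup.orderOf_coe, hτdef, orderOf_pow, hgo]
    conv_lhs => rw [hc]
    rw [Nat.gcd_eq_right (dvd_mul_left c _), Nat.mul_div_cancel _ (Nat.pos_of_mul_pos_left (hc ▸ Nat.card_pos))]
  set N := normalizer (T : Set (Cfsg.Sz F m)) with hNdef
  -- two-elements of the normaliser act without fixed points
  have hfree : ∀ u : Cfsg.Sz F m, (∃ i, u ^ 2 ^ i = 1) → u ≠ 1 → ∀ a ∈ T, Commute u a → a = 1 := by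
    intro u ⟨i, hi⟩ hu a ha hua
    by_contra ha1
    have huT : u ∈ T := by
      rw [← (torus_elt hm hF hT ha ha1).2]
      exact mem_centralizer_singleton_iff.2 hua.eq
    have h1 : u ^ Nat.card T = 1 := congrArg Subtype.val (pow_card_eq_one' (x := (⟨u, huT⟩ : T)))
    exact hu (orderOf_eq_one_iff.1 (Nat.eq_one_of_dvd_coprimes ((Nat.coprime_two_left.2 hodd).pow_left i)
      (orderOf_dvd_of_pow_eq_one hi) (orderOf_dvd_of_pow_eq_one h1)))
  -- an involution of the normaliser inverts the torus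
  have hTc : ∀ a ∈ T, ∀ b ∈ T, Commute a b := fun a ha b hb => by
    letI := (inferInstance : IsCyclic T).commGroup
    exact congrArg Subtype.val (mul_comm (⟨a, ha⟩ : T) ⟨b, hb⟩)
  have hinv : ∀ t ∈ N, t * t = 1 → t ≠ 1 → ∀ a ∈ T, t * a * t⁻¹ = a⁻¹ := by
    intro t ht htt ht1 a ha
    have hb := (mem_normalizer_iff.1 ht a).1 ha
    have htinv : t⁻¹ = t := inv_eq_of_mul_eq_one_right htt
    have hc : Commute t (a * (t * a * t⁻¹)) := by
      show t * (a * (t * a * t⁻¹)) = a * (t * a * t⁻¹) * t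
      conv_rhs => rw [(hTc a ha _ hb).eq]
      rw [htinv]
      group
    exact (inv_eq_of_mul_eq_one_right (hfree t ⟨1, by rw [pow_one, pow_two, htt]⟩ ht1 _ (mul_mem ha hb) hc)).symm
  -- a cyclic group of order four
  obtain ⟨P, hP⟩ : ∃ P : Subgroup N, Nat.card P = 2 ^ 2 := Sylow.exists_subgroup_card_pow_prime 2 (by
    rw [hcN]; exact dvd_mul_right 4 _)
  obtain ⟨y, hy⟩ : ∃ y : P, orderOf ((y : N) : Cfsg.Sz F m) = 4 := by
    by_contra hne
    push Not at hne
    have hsq : ∀ y : P, ((y : N) : Cfsg.Sz F m) * ((y : N) : Cfsg.Sz F m) = 1 := fun y => by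
      have hd : orderOf ((y : N) : Cfsg.Sz F m) ∣ 2 ^ 2 := by
        rw [Subgroup.orderOf_coe, Subgroup.orderOf_coe, ← hP]; exact orderOf_dvd_natCard y
      obtain ⟨i, hi, hi'⟩ := (Nat.dvd_prime_pow Nat.prime_two).1 hd
      have h2 : orderOf ((y : N) : Cfsg.Sz F m) ∣ 2 := by
        rw [hi']
        refine (pow_dvd_pow 2 (?_ : i ≤ 1)).trans (by norm_num)
        by_contra
        exact hne y (by rw [hi', show i = 2 by omega]; norm_num)
      rw [← pow_two]; exact orderOf_dvd_iff_pow_eq_one.1 h2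
    have huniq : ∀ s t : P, s ≠ 1 → t ≠ 1 → s = t := by
      intro s t hs ht
      have hs' : ((s : N) : Cfsg.Sz F m) ≠ 1 := fun e => hs (Subtype.ext (Subtype.ext e))
      have ht' : ((t : N) : Cfsg.Sz F m) ≠ 1 := fun e => ht (Subtype.ext (Subtype.ext e))
      by_contra hne'
      have h1 : ((s : N) : Cfsg.Sz F m) * ((t : N) : Cfsg.Sz F m) ≠ 1 := fun e => hne' (Subtype.ext (Subtype.ext (by
        rw [← mul_left_cancel_iff (a := ((s : N) : Cfsg.Sz F m)), hsq s, e])))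
      have hτ1 : (τ : Cfsg.Sz F m) ≠ 1 := fun e => by
        rw [e, orderOf_one] at hτ; exact (Nat.one_lt_pow (by omega) hp.one_lt).ne hτ
      refine hτ1 (hfree _ ⟨1, ?_⟩ h1 _ τ.2 ?_)
      · rw [pow_one, pow_two]
        exact hsq (s * t)
      · refine mul_inv_eq_iff_eq_mul.1 ?_
        calc ((s : N) : Cfsg.Sz F m) * ((t : N) : Cfsg.Sz F m) * (τ : Cfsg.Sz F m) *
              (((s : N) : Cfsg.Sz F m) * ((t : N) : Cfsg.Sz F m))⁻¹
            = ((s : N) : Cfsg.Sz F m) * (((t : N) : Cfsg.Sz F m) * (τ : Cfsg.Sz F m) * ((t : N) : Cfsg.Sz F m)⁻¹) *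
              ((s : N) : Cfsg.Sz F m)⁻¹ := by group
          _ = (τ : Cfsg.Sz F m) := by
            rw [hinv _ (t : N).2 (hsq t) ht' _ τ.2, hinv _ (s : N).2 (hsq s) hs' _ (inv_mem τ.2), inv_inv]
    haveI : Fintype P := Fintype.ofFinite _
    obtain ⟨s, hs⟩ := Finite.one_lt_card_iff_nontrivial.1 (show 1 < Nat.card P by rw [hP]; norm_num) |>.exists_pair_ne.imp
      fun a h => h
    have hle : Nat.card P ≤ 2 := by
      rw [Nat.card_eq_fintype_card, ← Finset.card_univ]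
      obtain ⟨t, ht⟩ : ∃ t : P, t ≠ 1 := by
        obtain ⟨b, hb⟩ := hs
        by_cases h : s = 1
        · exact ⟨b, fun e => hb (h.trans e.symm)⟩
        · exact ⟨s, h⟩
      calc (Finset.univ : Finset P).card ≤ ({1, t} : Finset P).card := Finset.card_le_card fun u _ => by
            by_cases h : u = 1
            · simp [h]
            · simp [huniq u t h ht]
        _ ≤ 2 := Finset.card_le_two
    rw [hP] at hle
    norm_num at hle
  obtain ⟨i, hi⟩ : ∃ i : ℕ, ((y : N) : Cfsg.Sz F m) * τ * ((y : N) : Cfsg.Sz F m)⁻¹ = (τ : Cfsg.Sz F m) ^ i := by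
    have hmem := (mem_normalizer_iff.1 (y : N).2 (g : Cfsg.Sz F m)).1 g.2
    obtain ⟨j, hj⟩ := (Submonoid.mem_powers_iff _ _).1 (mem_powers_iff_mem_zpowers.2 (hg ⟨_, hmem⟩))
    refine ⟨j, ?_⟩
    have hj' : (g : Cfsg.Sz F m) ^ j = ((y : N) : Cfsg.Sz F m) * (g : Cfsg.Sz F m) * ((y : N) : Cfsg.Sz F m)⁻¹ :=
      congrArg Subtype.val hj
    rw [hτdef, Subgroup.coe_pow, ← conj_pow, ← hj', ← pow_mul, ← pow_mul, mul_comm]
  refine ⟨(y : N), τ, p, k, i, hp, hk, ?_, ?_, hτ, hy, hi, fun j hj a ha hc' => ?_⟩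
  · exact (hc2 ▸ Dvd.intro c hc.symm : p ^ k ∣ cls m 2).trans (dvd_mul_right _ _)
  · intro hd
    have hnot : ¬ p ^ (k + 1) ∣ Nat.card T := pow_succ_padicValNat_not_dvd Nat.card_pos.ne'
    refine hnot (hc2 ▸ Nat.Coprime.dvd_of_dvd_mul_right (Nat.Coprime.pow_left _ ((hp.coprime_iff_not_dvd).2 fun h3 => ?_)) hd)
    exact absurd (cls_disjoint hp (hc2 ▸ hpT : p ∣ cls m 2) h3) (by decide)
  · refine hfree _ ⟨2, ?_⟩ hj a (zpowers_le.2 τ.2 ha) hc'
    have hy4 : ((y : N) : Cfsg.Sz F m) ^ (2 ^ 2) = 1 := orderOf_dvd_iff_pow_eq_one.1 (by rw [hy]; norm_num)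
    rw [← pow_mul, mul_comm, pow_mul, hy4, one_pow]

theorem exists_borel_data : HasBorel (Cfsg.Sz F m) m := by
  classical
  intro p k hp hk hd hnd
  have hS := isSuzField hF
  obtain ⟨u, hu⟩ := IsCyclic.exists_generator (α := Fˣ)
  have huo : orderOf u = cls m 1 := by
    rw [orderOf_eq_card_of_forall_mem_zpowers hu, Nat.card_eq_fintype_card, Fintype.card_units, hF, cls_one]
  obtain ⟨c, hc⟩ := hd
  let φ : Fˣ →* Cfsg.Sz F m := MonoidHom.mk' (HS hF) fun a b => HS_mul hF a b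
  refine ⟨U hF, HS hF (u ^ c), U_isPGroup hF, ?_, ?_, ?_, ⟨TS hF 1 0, TS_mem_U hF 1 0, ?_⟩, ?_⟩
  · rw [show HS hF (u ^ c) = φ (u ^ c) from rfl, orderOf_injective φ (HS_injective hF), orderOf_pow, huo]
    conv_lhs => rw [hc]
    rw [Nat.gcd_eq_right (dvd_mul_left c _), Nat.mul_div_cancel _ (Nat.pos_of_mul_pos_left (hc ▸ cls_pos m 1))]
  · refine mem_normalizer_fintype fun w hw => ?_
    obtain ⟨a, b, e⟩ := hw
    rw [show w = TS hF a b from Subtype.ext e, H_conj_T]
    exact TS_mem_U hF _ _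
  · intro w hw z hz
    obtain ⟨a, b, e⟩ := hw
    obtain ⟨a', b', e'⟩ := hz
    rw [show w = TS hF a b from Subtype.ext e, show z = TS hF a' b' from Subtype.ext e',
      show TS hF a' b' * TS hF a' b' = (TS hF 0 (th m a' * a') : Cfsg.Sz F m) from Subtype.ext (T_sq hS a' b')]
    exact Subtype.ext (T_zero_comm hS a b _).symm
  · intro e
    have e1 : T m (0 : F) (th m 1 * 1) = T m 0 0 := by
      rw [T_zero, ← T_sq hS 1 0]; exact congrArg Subtype.val e
    have h := (Prod.ext_iff.1 (TS_injective hF (a₁ := ((0 : F), th m (1 : F) * 1)) (a₂ := (0, 0))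
      (Subtype.ext e1))).2
    simp [th_one hS] at h
  · intro j hj w hw hcom
    obtain ⟨a, b, e⟩ := hw
    have hw' : w = TS hF a b := Subtype.ext e
    rw [hw'] at hcom ⊢
    rw [show HS hF (u ^ c) = φ (u ^ c) from rfl, ← map_pow] at hj hcom
    set v := (u ^ c) ^ j with hv
    have hv1 : v ≠ 1 := fun e1 => hj (by rw [e1, map_one])
    have h1 : HS hF v * TS hF a b * (HS hF v)⁻¹ = TS hF a b := mul_inv_eq_iff_eq_mul.2 hcom.eq
    rw [H_conj_T] at h1
    obtain ⟨ha, hb⟩ := Prod.ext_iff.1 (TS_injective hF (a₁ := (_, _)) (a₂ := (_, _)) h1)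
    have hvF : (v : F) ≠ 1 := fun e1 => hv1 (Units.ext e1)
    have ha0 : a = 0 := by
      by_contra h0
      exact hvF (mul_right_cancel₀ h0 (ha.trans (one_mul a).symm))
    have hb0 : b = 0 := by
      by_contra h0
      have h2 : th m (v : F) * v = 1 := mul_right_cancel₀ h0 (hb.trans (one_mul b).symm)
      exact hv1 (kth_injective (m := m) hS (a₁ := v) (a₂ := 1) (by
        show th m (v : F) * v = th m ((1 : Fˣ) : F) * ((1 : Fˣ) : F)
        rw [h2, Units.val_one, th_one hS, one_mul]))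
    rw [ha0, hb0]
    exact Subtype.ext T_zero

theorem orders_data (x : Cfsg.Sz F m) : ∃ l, orderOf x ∣ cls m l := by
  classical
  haveI : Fact (Nat.Prime 2) := ⟨Nat.prime_two⟩
  by_cases hx : IsTwo x
  · refine ⟨0, ?_⟩
    let P : Sylow 2 (Cfsg.Sz F m) := (U_isPGroup hF).toSylow (U_index_not_dvd hm hF)
    obtain ⟨i, hi⟩ := hx
    have hZ : IsPGroup 2 (zpowers x) := by
      rintro ⟨_, z, rfl⟩
      refine ⟨i, Subtype.ext ?_⟩
      show (x ^ z) ^ 2 ^ i = 1
      rw [← zpow_natCast, zpow_comm, zpow_natCast, hi, one_zpow]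
    obtain ⟨Q, hQ⟩ := hZ.exists_le_sylow
    obtain ⟨g, hg⟩ := MulAction.exists_smul_eq (Cfsg.Sz F m) P Q
    have hxQ : x ∈ (Q : Subgroup (Cfsg.Sz F m)) := hQ (mem_zpowers x)
    rw [← hg, Sylow.coe_subgroup_smul, mem_smul_pointwise_iff_exists] at hxQ
    obtain ⟨w, hw, rfl⟩ := hxQ
    obtain ⟨a, b, e⟩ := (hw : w ∈ U hF)
    have hS := isSuzField hF
    have hw4 : w ^ 4 = 1 := by
      rw [show w = TS hF a b from Subtype.ext e]
      refine Subtype.ext ?_
      show T m a b ^ (2 * 2) = 1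
      rw [pow_mul, pow_two, pow_two, T_sq hS, T_sq hS, th_zero hS, mul_zero, T_zero]
    rw [cls_zero]
    refine orderOf_dvd_of_pow_eq_one ?_
    show (g * w * g⁻¹) ^ 4 = 1
    rw [conj_pow, hw4]
    group
  · have hd : orderOf x ∣ Nat.card ↥(centralizer ({x} : Set (Cfsg.Sz F m))) :=
      Subgroup.orderOf_dvd_natCard _ (mem_centralizer_singleton_iff.2 rfl)
    rcases centralizer_card hm hF hx with h | h | h
    · exact ⟨1, hd.trans (dvd_of_eq h)⟩
    · exact ⟨2, hd.trans (dvd_of_eq h)⟩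
    · exact ⟨3, hd.trans (dvd_of_eq (Set.mem_singleton_iff.1 h))⟩

theorem exists_order_data (l : Fin 4) : ∃ x : Cfsg.Sz F m, orderOf x = cls m l := by
  classical
  have hS := isSuzField hF
  have htor : ∀ k, (k = 2 ^ (2 * m + 1) + 2 ^ (m + 1) + 1 ∨ k = 2 ^ (2 * m + 1) - 2 ^ (m + 1) + 1) →
      ∃ x : Cfsg.Sz F m, orderOf x = k := by
    intro k hk
    obtain ⟨T, hT, hcT, -⟩ := exists_tori hm hF hk
    haveI := torus_cyclic hm hF hT
    obtain ⟨g, hg⟩ := IsCyclic.exists_generator (α := T)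
    exact ⟨g, by rw [Subgroup.orderOf_coe, orderOf_eq_card_of_forall_mem_zpowers hg, hcT]⟩
  fin_cases l
  · refine ⟨TS hF 1 0, ?_⟩
    haveI := Fact.mk Nat.prime_two
    show orderOf (TS hF 1 0 : Cfsg.Sz F m) = 2 ^ (1 + 1)
    have h2 : (TS hF 1 0 : Cfsg.Sz F m) ^ 2 ^ 1 = TS hF 0 1 := Subtype.ext (by
      show T m (1 : F) 0 ^ 2 ^ 1 = T m 0 1
      rw [pow_one, pow_two, T_sq hS, th_one hS, one_mul])
    refine orderOf_eq_prime_pow (fun e => ?_) ?_
    · have e' : (TS hF 0 1 : Cfsg.Sz F m) = TS hF 0 0 := by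
        rw [← h2, e]; exact (Subtype.ext T_zero).symm
      exact one_ne_zero (Prod.ext_iff.1 (TS_injective hF (a₁ := (_, _)) (a₂ := (_, _)) e')).2
    · rw [pow_succ, pow_mul, h2, pow_two]
      refine Subtype.ext ?_
      show T m (0 : F) 1 * T m 0 1 = 1
      rw [T_sq hS, th_zero hS, mul_zero, T_zero]
  · obtain ⟨u, hu⟩ := IsCyclic.exists_generator (α := Fˣ)
    let φ : Fˣ →* Cfsg.Sz F m := MonoidHom.mk' (HS hF) fun a b => HS_mul hF a b
    exact ⟨φ u, by
      rw [orderOf_injective φ (HS_injective hF), orderOf_eq_card_of_forall_mem_zpowers hu, Nat.card_eq_fintype_card,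
        Fintype.card_units, hF]
      rfl⟩
  · exact htor _ (Or.inl rfl)
  · exact htor _ (Or.inr rfl)

theorem model_sz_sl : Model (Cfsg.Sz F m) m := by
  refine ⟨CfsgLib.Lie.Suz.simple hm hF, fun hc => ?_, hm, exists_torus_data hm hF, exists_borel_data hm hF,
    orders_data hm hF, exists_order_data hm hF⟩
  haveI := CfsgLib.Lie.Suz.simple hm hF
  have h1 := CfsgLib.Lie.Suz.perfect hm hF (m := m)
  rw [_root_.commutator_def, commutator_eq_bot_iff_le_centralizer.2 (fun a _ => mem_centralizer_iff.2 fun b _ =>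
    hc.is_comm.comm b a)] at h1
  exact bot_ne_top h1

/-- The facts on `Sz(q)`. -/
theorem model_sz : Model ↥(Cfsg.Lie.Sz F (2 ^ (m + 1))) m := by
  obtain ⟨e⟩ := exists_twEquiv (F := F) hm hF
  exact (model_sz_sl hm hF).of_equiv e

end CfsgLib.Lie.SuzSquare
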