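import Cfsg.Agent.Lib.Lie.SuzSquare.BorelLift
import Cfsg.Agent.Lib.PGroup.FourPrimes.Tools

/-!
# A solvable kernel below one Suzuki section has few primes

Three primes of three classes in the kernel give three elementary abelian groups, each normalised by the next and
by a cover of the section; fixed points of the lifts make them pairwise free of commuting elements, and then a
Frobenius group has a fixed point.
-/

set_option autoImplicit false
set_option linter.style.haveILetI false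
set_option linter.unusedSectionVars false

namespace CfsgLib.Lie.SuzSquare

open Subgroup CfsgLib.Coprime CfsgLib.PGroup.FourPrimes

universe u v

variable {G : Type u} [Group G] [Finite G] {T : Type v} [Group T] [Finite T]

/-- Three groups, each normalised by the next, pairwise without commuting elements, do not exist. -/
theorem chain_false (M : Fin 3 → Subgroup G) (e : Fin 3 → ℕ) (he : ∀ i, (e i).Prime)
    (hne : Function.Injective e) (hexp : ∀ i, ∀ x ∈ M i, x ^ e i = 1) (hM : ∀ i, M i ≠ ⊥)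
    (hnorm : ∀ i j, i < j → M j ≤ normalizer (M i : Set G))
    (hfree : ∀ i j, i ≠ j → ∀ x ∈ M i, ∀ y ∈ M j, Commute x y → x = 1 ∨ y = 1) : False := by
  haveI := Fact.mk (he 0)
  obtain ⟨b, hb, hb1⟩ := (M 2).bot_or_exists_ne_one.resolve_left (hM 2)
  obtain ⟨a, ha, ha1⟩ := (M 1).bot_or_exists_ne_one.resolve_left (hM 1)
  have hbo : orderOf b = e 2 := by
    haveI := Fact.mk (he 2)
    exact orderOf_eq_prime (hexp 2 b hb) hb1
  obtain ⟨v, hv, hv1, hc⟩ := exists_fixed_of_semiregular (r := e 0) (A := M 1) (R := M 0) (b := b)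
    (fun x => ⟨1, Subtype.ext (by simpa using hexp 0 x x.2)⟩)
    (not_dvd_of_pow (he 1) (he 0) (hne.ne (by decide)) (hexp 1))
    (by rw [hbo]; exact fun h => hne.ne (show (0 : Fin 3) ≠ 2 by decide) ((Nat.prime_dvd_prime_iff_eq (he 0) (he 2)).1 h))
    (hnorm 0 1 (by decide)) (hnorm 0 2 (by decide) hb) (hnorm 1 2 (by decide) hb)
    (fun i hi x hx hc => (hfree 2 1 (by decide) _ (pow_mem hb i) x hx hc).resolve_left hi)
    (fun h => by
      obtain ⟨v, hv, hv1⟩ := (M 0).bot_or_exists_ne_one.resolve_left (hM 0)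
      rcases hfree 1 0 (by decide) a ha v hv (mem_centralizer_iff.1 (h ha) v hv).symm with e' | e'
      exacts [ha1 e', hv1 e'])
  rcases hfree 2 0 (by decide) b hb v hv hc with e' | e'
  exacts [hb1 e', hv1 e']

theorem exists_third : ∀ a b : Fin 3, ∃ c, c ≠ a ∧ c ≠ b := by decide

theorem bijective_three : ∀ a b c : Fin 3, b ≠ a → c ≠ a → c ≠ b → Function.Bijective ![a, b, c] := by decide

section Modules

variable {H : Subgroup G} {φ : H →* T}

/-- A Hall subgroup of a subgroup of the kernel keeps the section. -/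
theorem cover_step {L N : Subgroup G} (hL : Group.IsSolvable L) (π : Set ℕ) (hLN : L ≤ N) (hNH : N ≤ H)
    (hNL : N ≤ normalizer (L : Set G)) (hker : ∀ (x : G) (hx : x ∈ L), φ ⟨x, hNH (hLN hx)⟩ = 1)
    (hcov : ∀ t : T, ∃ y : H, (y : G) ∈ N ∧ φ y = t) :
    ∃ S : Subgroup G, IsHallIn π S L ∧
      ∀ t : T, ∃ y : H, (y : G) ∈ N ⊓ normalizer (S : Set G) ∧ φ y = t := by
  obtain ⟨S, hS⟩ := exists_hallIn π hL
  refine ⟨S, hS, fun t => ?_⟩
  obtain ⟨y, hy, rfl⟩ := hcov t
  have hyL := hNL hy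
  have hc : IsHallIn π (conjBy (y : G) S) L := by
    refine ⟨(map_mono hS.1).trans (le_of_eq (conjBy_eq_self_iff.2 hyL)), by rw [card_conjBy]; exact hS.2.1, ?_⟩
    rw [← conjBy_eq_self_iff.2 hyL, relIndex_map_map_of_injective _ _ (MulEquiv.injective _)]
    exact hS.2.2
  obtain ⟨x, hx, hxy⟩ := hc.exists_conj hS hL
  rw [conjBy_conjBy, conjBy_eq_self_iff] at hxy
  refine ⟨⟨x, hNH (hLN hx)⟩ * y, ⟨mul_mem (hLN hx) hy, hxy⟩, ?_⟩
  rw [map_mul, hker x hx, one_mul]

/-- The three modules. -/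
theorem exists_modules (hφ : Function.Surjective φ) (hs : Group.IsSolvable φ.ker) {p : Fin 3 → ℕ}
    (hp : ∀ i, (p i).Prime) (hinj : Function.Injective p) (hdvd : ∀ i, p i ∣ Nat.card φ.ker) :
    ∃ (C : Cover G T) (M : Fin 3 → Subgroup G) (σ : Equiv.Perm (Fin 3)), C.X ≤ H ∧
      (∀ i, IsMulCommutative (M i)) ∧ (∀ i, M i ≠ ⊥) ∧ (∀ i, ∀ x ∈ M i, x ^ p (σ i) = 1) ∧
      (∀ i, C.X ≤ normalizer (M i : Set G)) ∧ ∀ i j, i < j → M j ≤ normalizer (M i : Set G) := by
  set K := φ.ker.map H.subtype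
  have hKs : Group.IsSolvable K := by
    haveI := hs
    exact Group.isSolvable_of_surjective (H.subtype.subgroupMap_surjective φ.ker)
  have hKH : K ≤ H := map_subtype_le _
  have hK1 : ∀ (x : G) (hx : x ∈ K), φ ⟨x, hKH hx⟩ = 1 := by
    rintro _ ⟨w, hw, rfl⟩
    exact hw
  have hKN : H ≤ normalizer (K : Set G) :=
    le_trans (le_of_eq (by rw [normalizer_eq_top_iff.2 (inferInstance : φ.ker.Normal), ← MonoidHom.range_eq_map,
      range_subtype])) (le_normalizer_map (H := φ.ker) H.subtype)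
  have hKcard : Nat.card K = Nat.card φ.ker := card_map_of_injective H.subtype_injective
  have hdK : ∀ i, p i ∣ Nat.card K := fun i => hKcard ▸ hdvd i
  obtain ⟨S₁, hS₁, hN₁⟩ := cover_step (φ := φ) (N := H) hKs {p 0, p 1, p 2} hKH le_rfl hKN
    (fun x hx => hK1 x hx) fun t => let ⟨y, hy⟩ := hφ t; ⟨y, y.2, hy⟩
  set N₁ := H ⊓ normalizer (S₁ : Set G)
  have hS₁s := isSolvable_of_le hS₁.1 hKs
  have hd₁ : ∀ i, p i ∣ Nat.card S₁ := fun i => dvd_hall hS₁ (hp i) (by fin_cases i <;> simp) (hdK i)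
  have hS₁0 : S₁ ≠ ⊥ := fun h => (hp 0).ne_one (Nat.dvd_one.1 (Subgroup.card_eq_one.2 h ▸ hd₁ 0))
  obtain ⟨W, r, hr, hWS, hW0, hWN, hWc, hWr, hrd, -⟩ :=
    exists_minimal_invariant hS₁s hS₁0 (inf_le_right : N₁ ≤ _)
  obtain ⟨a, rfl⟩ : ∃ a, p a = r := by
    rcases hS₁.2.1 r hr hrd with h | h | h
    exacts [⟨0, h.symm⟩, ⟨1, h.symm⟩, ⟨2, h.symm⟩]
  obtain ⟨S₂, hS₂, hN₂⟩ := cover_step (φ := φ) (N := N₁) hS₁s {r | ∃ i, i ≠ a ∧ p i = r}
    (le_inf (hS₁.1.trans hKH) le_normalizer) inf_le_left inf_le_right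
    (fun x hx => hK1 x (hS₁.1 hx)) hN₁
  set N₂ := N₁ ⊓ normalizer (S₂ : Set G)
  have hS₂s := isSolvable_of_le hS₂.1 hS₁s
  have hd₂ : ∀ i, i ≠ a → p i ∣ Nat.card S₂ := fun i hi => dvd_hall hS₂ (hp i) ⟨i, hi, rfl⟩ (hd₁ i)
  obtain ⟨a', ha'⟩ : ∃ a', a' ≠ a := exists_ne a
  have hS₂0 : S₂ ≠ ⊥ := fun h => (hp a').ne_one (Nat.dvd_one.1 (Subgroup.card_eq_one.2 h ▸ hd₂ a' ha'))
  obtain ⟨P, r, hr, hPS, hP0, hPN, hPc, hPr, hrd, -⟩ :=
    exists_minimal_invariant hS₂s hS₂0 (inf_le_right : N₂ ≤ _)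
  obtain ⟨b, hba, rfl⟩ := hS₂.2.1 r hr hrd
  obtain ⟨c, hca, hcb⟩ := exists_third a b
  obtain ⟨S₃, hS₃, hN₃⟩ := cover_step (φ := φ) (N := N₂) hS₂s {p c}
    (le_inf (le_inf ((hS₂.1.trans hS₁.1).trans hKH) (hS₂.1.trans le_normalizer)) le_normalizer)
    (inf_le_left.trans inf_le_left) inf_le_right (fun x hx => hK1 x (hS₁.1 (hS₂.1 hx))) hN₂
  set N₃ := N₂ ⊓ normalizer (S₃ : Set G)
  have hd₃ : p c ∣ Nat.card S₃ := dvd_hall hS₃ (hp c) rfl (hd₂ c hca)
  have hS₃0 : S₃ ≠ ⊥ := fun h => (hp c).ne_one (Nat.dvd_one.1 (Subgroup.card_eq_one.2 h ▸ hd₃))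
  obtain ⟨Q, r, hr, hQS, hQ0, hQN, hQc, hQr, hrd, -⟩ :=
    exists_minimal_invariant (isSolvable_of_le hS₃.1 hS₂s) hS₃0 (inf_le_right : N₃ ≤ _)
  obtain rfl : r = p c := hS₃.2.1 r hr hrd
  have hN₃H : N₃ ≤ H := inf_le_left.trans (inf_le_left.trans inf_le_left)
  obtain ⟨C, hCN, -⟩ := exists_cover (φ.comp (Subgroup.inclusion hN₃H)) fun t => by
    obtain ⟨y, hy, rfl⟩ := hN₃ t
    exact ⟨⟨y, hy⟩, congrArg φ (Subtype.ext rfl)⟩
  have hσ := bijective_three a b c hba hca hcb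
  refine ⟨C, ![W, P, Q], Equiv.ofBijective _ hσ, hCN.trans hN₃H, ?_, ?_, ?_, ?_, ?_⟩
  · intro i; fin_cases i <;> assumption
  · intro i; fin_cases i <;> assumption
  · intro i; fin_cases i <;> assumption
  · intro i
    fin_cases i
    exacts [hCN.trans (inf_le_left.trans (inf_le_left.trans hWN)), hCN.trans (inf_le_left.trans hPN),
      hCN.trans hQN]
  · have hPN₁ : P ≤ N₁ := (hPS.trans hS₂.1).trans (le_inf (hS₁.1.trans hKH) le_normalizer)
    have hQS₂ : Q ≤ S₂ := hQS.trans hS₃.1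
    have hQN₂ : Q ≤ N₂ := le_inf (hQS₂.trans (hS₂.1.trans (le_inf (hS₁.1.trans hKH) le_normalizer)))
      (hQS₂.trans le_normalizer)
    intro i j hij
    fin_cases i <;> fin_cases j <;> try exact absurd hij (by decide)
    exacts [hPN₁.trans hWN, (hQN₂.trans inf_le_left).trans hWN, hQN₂.trans hPN]

end Modules

variable [IsSimpleGroup T]

/-- A cover of a full section centralizes the abelian groups of the prime exponents of `q - 1`. -/
theorem Cover.a_trivial (C : Cover G T) {m : ℕ} (hsub : Sub G m) (hM : Model T m) {r : ℕ} (hr : r.Prime)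
    (hr1 : r ∣ cls m 1) {V : Subgroup G} [IsMulCommutative V] (hV : IsPGroup r V)
    (hXV : C.X ≤ normalizer (V : Set G)) : C.X ≤ centralizer (V : Set G) := by
  haveI := Fact.mk hr
  have hpos := cls_pos m 1
  obtain ⟨k, s, hs, hks⟩ := Nat.exists_eq_pow_mul_and_not_dvd hpos.ne' r hr.ne_one
  have hk : 1 ≤ k := by
    rcases Nat.eq_zero_or_pos k with rfl | h
    · simp at hks; exact absurd (hks ▸ hr1) hs
    · exact h
  have hnd : ¬ r ^ (k + 1) ∣ cls m 1 := fun h => hs (by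
    rw [hks, pow_succ] at h
    exact Nat.dvd_of_mul_dvd_mul_left (pow_pos hr.pos k) h)
  obtain ⟨g, A, hgo, -, hA2, hAX, hgA, hfpf, a, ha, haf⟩ := C.exists_borel_lift hsub hM.borel
    (fun z hz h2 => C.two_central hsub hM.torus hz h2) hr hk (hks ▸ dvd_mul_right _ _) hnd
    fun x hx => exact_full C hsub hr hr1 hnd hx
  refine C.centralizes hXV haf (le_centralizer_of_max (k := k) (b := (g : G)) hV ?_
    ((Subgroup.orderOf_coe g).trans hgo) (fun x j hx => ?_) (hAX.trans hXV) (hXV g.2) hgA hfpf ha)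
  · haveI := Fact.mk Nat.prime_two
    obtain ⟨e, he⟩ := hA2.exists_card_eq
    rw [he]
    refine fun hd => Nat.not_even_iff_odd.2 (cls_odd m (i := 1) (by decide)) (even_iff_two_dvd.2 ?_)
    rw [← (Nat.prime_dvd_prime_iff_eq hr Nat.prime_two).1 (hr.dvd_of_dvd_pow hd)]
    exact hr1
  · by_contra hc
    exact hnd ((pow_dvd_pow r (by omega : k + 1 ≤ j)).trans (hsub.dvd_cls hr hx.symm.dvd hr1))

theorem commute_inf {G : Type u} [Group G] {M : Subgroup G} {x v : G} (hv : v ∈ M ⊓ centralizer ({x} : Set G)) :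
    Commute x v :=
  Commute.symm (mem_centralizer_singleton_iff.1 hv.2)

/-- The kernel below one section does not contain three classes of primes. -/
theorem not_three_classes {H : Subgroup G} {φ : H →* T} {m n : ℕ} (hsub : Sub G m)
    (hφ : Function.Surjective φ) (hs : Group.IsSolvable φ.ker) (hM : Model T n)
    (l : Fin 3 → Fin 4) (hl : Function.Injective l) (p : Fin 3 → ℕ) (hp : ∀ i, (p i).Prime)
    (hpl : ∀ i, p i ∣ cls m (l i)) (hpd : ∀ i, p i ∣ Nat.card φ.ker)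
    (hcase : (∀ i, l i ≠ 0) ∨ n = m) : False := by
  classical
  have hinj : Function.Injective p := fun i j e => hl (cls_disjoint (hp i) (hpl i) (e ▸ hpl j))
  obtain ⟨C, M, σ, -, hcomm, hM0, hexp, hXM, hnorm⟩ := exists_modules hφ hs hp hinj hpd
  set c : Fin 3 → Fin 4 := fun i => l (σ i) with hcdef
  set e : Fin 3 → ℕ := fun i => p (σ i) with hedef
  have hc : Function.Injective c := hl.comp σ.injective
  have hec : ∀ i, e i ∣ cls m (c i) := fun i => hpl (σ i)
  have he : ∀ i, (e i).Prime := fun i => hp (σ i)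
  have hord : ∀ i, ∀ x ∈ M i, x ≠ 1 → orderOf x = e i := fun i x hx hx1 => by
    haveI := Fact.mk (he i)
    exact orderOf_eq_prime (hexp i x hx) hx1
  have hpg : ∀ i, IsPGroup (e i) (M i) := fun i x => ⟨1, Subtype.ext (by simpa using hexp i x x.2)⟩
  -- an element fixing points in the three
  have finish : ∀ (x : G) (z : ℕ) (lz : Fin 4), z.Prime → orderOf x = z → z ∣ cls m lz → (∀ i, c i ≠ lz) →
      (∀ i j, i < j → x ∈ normalizer (M i : Set G)) → (∀ i, ∃ v ∈ M i, v ≠ 1 ∧ Commute x v) → False := by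
    intro x z lz hz hxo hzl hne _ hfix
    refine chain_false (fun i => M i ⊓ centralizer ({x} : Set G)) e he (hinj.comp σ.injective)
      (fun i v hv => hexp i v hv.1) (fun i h => ?_) (fun i j hij => ?_) fun i j hij u hu w hw huw => ?_
    · obtain ⟨v, hv, hv1, hcv⟩ := hfix i
      exact hv1 (mem_bot.1 (h ▸ ⟨hv, mem_centralizer_singleton_iff.2 hcv.symm⟩))
    · refine inf_le_normalizer (inf_le_left.trans (hnorm i j hij)) (inf_le_right.trans ?_)
      exact le_normalizer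
    · by_contra hne'
      push Not at hne'
      exact hsub.no_three hz (he i) (he j) hzl (hec i) (hec j) (hne i).symm (hne j).symm (hc.ne hij) hxo
        (hord i u hu.1 hne'.1) (hord j w hw.1 hne'.2) (commute_inf hu) (commute_inf hw) huw
  obtain ⟨t, ht, hft⟩ := C.exists_involution hsub hM.torus
  have htfix : ∀ i, c i ≠ 0 → ∀ V ≤ M i, V ≠ ⊥ → C.X ≤ normalizer (V : Set G) →
      ∃ v ∈ V, v ≠ 1 ∧ Commute (t : G) v := by
    intro i hi V hVM hV0 hXV
    haveI := hcomm i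
    haveI : IsMulCommutative V := isMulCommutative_iff.2 fun a b => Subtype.ext
      (congrArg Subtype.val (isMulCommutative_iff.1 (hcomm i) ⟨a, hVM a.2⟩ ⟨b, hVM b.2⟩) :)
    haveI := Fact.mk (he i)
    obtain ⟨k, hk⟩ := ((hpg i).to_le hVM).exists_card_eq
    refine C.exists_fixed_involution hM.noncomm ht hft hV0 ?_ hXV
    rw [hk]
    exact ((cls_odd m hi).of_dvd_nat (hec i)).pow
  by_cases h0 : ∀ i, c i ≠ 0
  · exact finish t 2 0 Nat.prime_two ((Subgroup.orderOf_coe t).trans ht) (by rw [cls_zero]; norm_num) h0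
      (fun i j _ => hXM i t.2) fun i => htfix i (h0 i) (M i) le_rfl (hM0 i) (hXM i)
  obtain rfl : m = n := (hcase.resolve_left fun h => h0 fun i => h _).symm
  push Not at h0
  obtain ⟨d, hd0⟩ := h0
  have htriv : ∀ i, c i = 0 ∨ c i = 1 → C.X ≤ centralizer (M i : Set G) := by
    rintro i (h | h)
    · haveI := hcomm i
      have h2 : e i = 2 := by
        have := hec i
        rw [h, cls_zero, show (4 : ℕ) = 2 ^ 2 by norm_num] at this
        exact (Nat.prime_dvd_prime_iff_eq (he i) Nat.prime_two).1 ((he i).dvd_of_dvd_pow this)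
      refine C.two_trivial hsub hM.torus (fun p' k' hp' hk' hd' hnd' τ hτ => ?_) (h2 ▸ hpg i) (hXM i)
      obtain ⟨l', hl', hfull⟩ := full_of_mul hp' hk' hd' hnd'
      exact exact_full C hsub hp' hl' hfull hτ
    · haveI := hcomm i
      exact C.a_trivial hsub hM (he i) (h ▸ hec i) (hpg i) (hXM i)
  -- the Borel element
  obtain ⟨p₁, hp₁, hp₁d⟩ := Nat.exists_prime_and_dvd (show cls m 1 ≠ 1 by
    rw [cls_one]
    have := hM.one_le
    have : 8 ≤ 2 ^ (2 * m + 1) := le_trans (by norm_num) (Nat.pow_le_pow_right (by norm_num) (show 3 ≤ 2 * m + 1 by omega))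
    omega)
  obtain ⟨k, s, hs', hks⟩ := Nat.exists_eq_pow_mul_and_not_dvd (cls_pos m 1).ne' p₁ hp₁.ne_one
  have hk : 1 ≤ k := by
    rcases Nat.eq_zero_or_pos k with rfl | h
    · simp at hks; exact absurd (hks ▸ hp₁d) hs'
    · exact h
  have hnd : ¬ p₁ ^ (k + 1) ∣ cls m 1 := fun h => hs' (by
    rw [hks, pow_succ] at h
    exact Nat.dvd_of_mul_dvd_mul_left (pow_pos hp₁.pos k) h)
  obtain ⟨g, A, hgo, -, hA2, hAX, hgA, hfpf, hAnt⟩ := C.exists_borel_lift hsub hM.borel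
    (fun z hz h2 => C.two_central hsub hM.torus hz h2) hp₁ hk (hks ▸ dvd_mul_right _ _) hnd
    fun x hx => exact_full C hsub hp₁ hp₁d hnd hx
  set x₁ := (g : G) ^ p₁ ^ (k - 1) with hx₁
  have hx₁o : orderOf x₁ = p₁ := by
    rw [hx₁, orderOf_pow_of_dvd (pow_ne_zero _ hp₁.ne_zero) (by rw [Subgroup.orderOf_coe, hgo]; exact pow_dvd_pow _ (by omega)),
      Subgroup.orderOf_coe, hgo, Nat.pow_div (by omega) hp₁.pos, show k - (k - 1) = 1 by omega, pow_one]
  have hgfix : ∀ i, c i ≠ 0 → c i ≠ 1 → ∀ V ≤ M i, V ≠ ⊥ → C.X ≤ normalizer (V : Set G) →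
      ∃ v ∈ V, v ≠ 1 ∧ Commute x₁ v := by
    intro i hi hi1 V hVM hV0 hXV
    haveI := Fact.mk (he i)
    obtain ⟨v, hv, hv1, hcv⟩ := C.borel_fixed hA2 hAX hgA hfpf hAnt
      (fun h => Nat.not_even_iff_odd.2 (cls_odd m hi) (even_iff_two_dvd.2 (h ▸ hec i)))
      (fun h => hi1 (cls_disjoint (he i) (hec i) (by
        rw [hgo] at h
        rw [(Nat.prime_dvd_prime_iff_eq (he i) hp₁).1 ((he i).dvd_of_dvd_pow h)]
        exact hp₁d)))
      ((hpg i).to_le hVM) hV0 hXV
    exact ⟨v, hv, hv1, hcv.pow_left _⟩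
  by_cases h1 : ∀ i, c i ≠ 1
  · refine finish x₁ p₁ 1 hp₁ hx₁o hp₁d h1 (fun i j _ => hXM i (pow_mem g.2 _)) fun i => ?_
    by_cases hi : c i = 0
    · obtain ⟨v, hv, hv1⟩ := (M i).bot_or_exists_ne_one.resolve_left (hM0 i)
      exact ⟨v, hv, hv1, (mem_centralizer_iff.1 (htriv i (Or.inl hi) (pow_mem g.2 _)) v hv).symm⟩
    · exact hgfix i hi (h1 i) (M i) le_rfl (hM0 i) (hXM i)
  -- the classes `0`, `1` and one more
  push Not at h1
  obtain ⟨a, ha1⟩ := h1
  obtain ⟨lz, hlz⟩ : ∃ lz, ∀ i, c i ≠ lz := by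
    by_contra h
    push Not at h
    exact absurd (Fintype.card_le_of_surjective c h) (by simp)
  have hlz0 : lz ≠ 0 := fun h => hlz d (hd0.trans h.symm)
  have hlz1 : lz ≠ 1 := fun h => hlz a (ha1.trans h.symm)
  obtain ⟨z, hz, hzd⟩ := Nat.exists_prime_and_dvd (show cls m lz ≠ 1 from fun h => by
    obtain ⟨x, hx⟩ := hM.exists_order lz
    have h5 : 2 < cls m 2 ∧ 2 < cls m 3 := by
      have h4 : 2 ^ (m + 1) * 2 ≤ 2 ^ (2 * m + 1) := by
        rw [← pow_succ]; exact Nat.pow_le_pow_right (by norm_num) (by have := hM.one_le; omega)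
      have h6 : 2 ≤ 2 ^ (m + 1) :=
        le_trans (by norm_num) (Nat.pow_le_pow_right (show 0 < 2 by norm_num) (show 1 ≤ m + 1 by omega))
      constructor
      · show 2 < 2 ^ (2 * m + 1) + 2 ^ (m + 1) + 1
        generalize 2 ^ (2 * m + 1) = Q, 2 ^ (m + 1) = R at h4 h6 ⊢
        omega
      · show 2 < 2 ^ (2 * m + 1) - 2 ^ (m + 1) + 1
        generalize 2 ^ (2 * m + 1) = Q, 2 ^ (m + 1) = R at h4 h6 ⊢
        omega
    fin_cases lz
    · exact hlz0 rfl
    · exact hlz1 rfl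
    · have : cls m 2 = 1 := h; omega
    · have : cls m 3 = 1 := h; omega)
  obtain ⟨w, hwo⟩ : ∃ w : C.X, orderOf w = z := by
    haveI := Fact.mk hz
    obtain ⟨y, hy⟩ := hM.exists_order lz
    obtain ⟨y', hy'⟩ := C.surj y
    exact exists_prime_orderOf_dvd_card' z ((hzd.trans (hy ▸ hy' ▸ orderOf_map_dvd C.f y')).trans (orderOf_dvd_natCard y'))
  have hwo' : orderOf (w : G) = z := (Subgroup.orderOf_coe w).trans hwo
  have hct : ∀ i, c i = 0 ∨ c i = 1 → ∀ u ∈ M i, ∀ y ∈ C.X, Commute y u := fun i hi u hu y hy =>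
    (mem_centralizer_iff.1 (htriv i hi hy) u hu).symm
  -- the fixed points of a centralized element in the third module
  have hnone : ∀ i j, (c i = 0 ∨ c i = 1) → c j ≠ 0 → c j ≠ 1 → ∀ u ∈ M i, u ≠ 1 → ∀ v ∈ M j, Commute u v → v = 1 := by
    intro i j hi hj0 hj1 u hu hu1 v hv huv
    by_contra hv1
    set V := M j ⊓ centralizer ({u} : Set G)
    have hV0 : V ≠ ⊥ := fun h => hv1 (mem_bot.1 (h ▸ ⟨hv, mem_centralizer_singleton_iff.2 huv.symm⟩))
    have hXV : C.X ≤ normalizer (V : Set G) := inf_le_normalizer (hXM j) fun y hy =>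
      le_normalizer (mem_centralizer_singleton_iff.2 (hct i hi u hu y hy).eq)
    have hij : c i ≠ c j := fun h => by rcases hi with h' | h' <;> simp_all
    rcases hi with hi | hi
    · obtain ⟨v', hv', hv'1, hcv⟩ := hgfix j hj0 hj1 V inf_le_left hV0 hXV
      exact hsub.no_three hp₁ (he i) (he j) hp₁d (hec i) (hec j) (by rw [hi]; decide) hj1.symm hij hx₁o
        (hord i u hu hu1) (hord j v' hv'.1 hv'1) (hct i (Or.inl hi) u hu _ (pow_mem g.2 _)) hcv (commute_inf hv')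
    · obtain ⟨v', hv', hv'1, hcv⟩ := htfix j hj0 V inf_le_left hV0 hXV
      exact hsub.no_three Nat.prime_two (he i) (he j) (show 2 ∣ cls m 0 by rw [cls_zero]; norm_num) (hec i) (hec j)
        (by rw [hi]; decide) hj0.symm hij ((Subgroup.orderOf_coe t).trans ht) (hord i u hu hu1)
        (hord j v' hv'.1 hv'1) (hct i (Or.inr hi) u hu _ t.2) hcv (commute_inf hv')
  refine chain_false M e he (hinj.comp σ.injective) (fun i => hexp i) hM0 hnorm fun i j hij u hu v hv huv => ?_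
  by_contra hne
  push Not at hne
  by_cases hi : c i = 0 ∨ c i = 1
  · by_cases hj : c j = 0 ∨ c j = 1
    · exact hsub.no_three hz (he i) (he j) hzd (hec i) (hec j) (hlz i).symm (hlz j).symm (hc.ne hij) hwo'
        (hord i u hu hne.1) (hord j v hv hne.2) (hct i hi u hu _ w.2) (hct j hj v hv _ w.2) huv
    · push Not at hj
      exact hne.2 (hnone i j hi hj.1 hj.2 u hu hne.1 v hv huv)
  · by_cases hj : c j = 0 ∨ c j = 1
    · push Not at hi
      exact hne.1 (hnone j i hj hi.1 hi.2 v hv hne.2 u hu huv.symm)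
    · push Not at hi hj
      exact hij (hc (by
        have h1 : c d ≠ c i := fun h => hi.1 (h ▸ hd0)
        have h2 : c a ≠ c i := fun h => hi.2 (h ▸ ha1)
        have h3 := hlz i
        have h4 : c d ≠ c j := fun h => hj.1 (h ▸ hd0)
        have h5 : c a ≠ c j := fun h => hj.2 (h ▸ ha1)
        have h6 := hlz j
        rw [hd0] at h1 h4
        rw [ha1] at h2 h5
        revert h1 h2 h3 h4 h5 h6 hlz0 hlz1
        generalize c i = A, c j = B, lz = Z
        revert A B Z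
        decide))

end CfsgLib.Lie.SuzSquare
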